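import Cfsg.Agent.Lib.O8Three.Finish.Frames
import Cfsg.Agent.Lib.O8Three.Cube.Main
import Cfsg.Agent.Lib.O8Three.Wreath.Main

/-!
S3372: the centraliser of the involution and its map to the permutations of the frames.
-/

set_option autoImplicit false
set_option linter.style.haveILetI false
set_option linter.unusedSectionVars false

namespace Cfsg.Agent.O8Three.Finish

open Subgroup

/-- The chart together with the analysis of the centraliser of the involution. -/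
structure Ctx (G : Type*) [Group G] [Finite G] where
  S : Setting G
  D : Cube.Data ↥(centralizer ({S.F.t} : Set G))
  hz : (D.z : G) = S.F.t
  he : ∀ i, (D.e i : G) = S.e i

theorem MT_fix : ∀ i, fp MT i = i := fp_maps.2.1

namespace Ctx

variable {G : Type*} [Group G] [Finite G] (T : Ctx G)

/-- The centraliser of the involution. -/
abbrev C : Subgroup G := centralizer ({T.S.F.t} : Set G)

theorem top : T.D.Mt = ⊤ := T.D.toHyp_top T.D.toHyp.eq_top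

theorem dec (g : T.C) : ∃ w ∈ T.D.WW, ∃ n ∈ T.D.Nf, g = w * n :=
  show g ∈ T.D.Mt from T.top.symm ▸ mem_top g

theorem comm_t (g : T.C) : Commute (g : G) T.S.F.t := mem_centralizer_singleton_iff.1 g.2

theorem map_E : T.D.E.map T.C.subtype = T.S.E := by
  rw [Cube.Data.E, MonoidHom.map_closure, Setting.E]
  congr 1
  ext x
  constructor
  · rintro ⟨_, ⟨i, rfl⟩, rfl⟩; exact ⟨i, (T.he i).symm⟩
  · rintro ⟨i, rfl⟩; exact ⟨_, ⟨i, rfl⟩, T.he i⟩

theorem coe_mem_E {g : T.C} : (g : G) ∈ T.S.E ↔ g ∈ T.D.E := by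
  rw [← T.map_E]
  exact ⟨fun ⟨x, hx, e⟩ => Subtype.ext e ▸ hx, fun h => ⟨g, h, rfl⟩⟩

theorem conj_e (n : T.C) (i : Fin 3) : ((n * T.D.e i * n⁻¹ : T.C) : G) = (n : G) * T.S.e i * (n : G)⁻¹ := by
  rw [Subgroup.coe_mul, Subgroup.coe_mul, InvMemClass.coe_inv, T.he]

theorem norm_of_Nf {n : T.C} (hn : n ∈ T.D.Nf) (i : Fin 3) : (n : G) * T.S.e i * (n : G)⁻¹ ∈ T.S.E := by
  rw [← T.conj_e]
  exact T.coe_mem_E.2 (T.D.Nf_conj hn (T.D.e_mem i))

theorem mem_N_of_Nf {n : T.C} (hn : n ∈ T.D.Nf) : (n : G) ∈ T.S.N :=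
  T.S.norm_E (T.comm_t n) (T.norm_of_Nf hn)

theorem mem_Nf {n : T.C} : n ∈ T.D.Nf ↔ (n : G) ∈ T.S.N := by
  refine ⟨T.mem_N_of_Nf, fun h => T.D.mem_Nf fun i => T.coe_mem_E.1 (T.S.mem_E ?_ ?_)⟩
  · rw [T.conj_e]
    exact (mem_normalizer_iff.1 h _).1 (T.S.K.φ_mem _)
  · exact (T.comm_t _).symm

/-- The permutation of the frames induced by an element normalising the coordinates. -/
noncomputable def permNf : T.D.Nf →* Equiv.Perm (Fin 3) :=
  MonoidHom.mk' (fun n => perm T.S ⟨((n : T.C) : G), T.mem_N_of_Nf n.2⟩) fun m n => by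
    rw [← map_mul]
    exact congrArg (perm T.S) (Subtype.ext rfl)

theorem permNf_apply (n : T.D.Nf) : T.permNf n = perm T.S ⟨((n : T.C) : G), T.mem_N_of_Nf n.2⟩ := rfl

theorem permNf_eq_one {n : T.C} (hn : n ∈ T.D.Nf) : T.permNf ⟨n, hn⟩ = 1 ↔ n ∈ T.D.N := by
  rw [permNf_apply, perm_coord T.S (T.comm_t n) (T.norm_of_Nf hn)]
  refine forall_congr' fun i => ?_
  rw [← T.conj_e, ← T.he, ← InvMemClass.coe_inv, Subtype.coe_inj, Subtype.coe_inj]

theorem card_two_WW : IsPGroup 2 T.D.WW := IsPGroup.of_card (n := 9) (by rw [T.D.card_WW]; norm_num)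

theorem WW_normal : T.D.WW.Normal := T.D.WW_normal T.top

theorem WW_inter_Nf {n : T.C} (hw : n ∈ T.D.WW) (hn : n ∈ T.D.Nf) : n ∈ T.D.N := by
  have hcomm : ∀ i, n * T.D.e i = T.D.e i * n := fun i => by
    rw [← mul_inv_eq_iff_eq_mul, ← mul_inv_eq_one]
    refine T.D.two_inter_E T.card_two_WW ?_ (mul_mem (T.D.Nf_conj hn (T.D.e_mem i)) (inv_mem (T.D.e_mem i)))
    rw [show n * T.D.e i * n⁻¹ * (T.D.e i)⁻¹ = n * (T.D.e i * n⁻¹ * (T.D.e i)⁻¹) by group]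
    exact mul_mem hw (T.WW_normal.conj_mem _ (inv_mem hw) _)
  intro i
  exact Or.inl (by rw [hcomm i, mul_inv_cancel_right])

theorem permNf_congr {w w' n n' : T.C} (hw : w ∈ T.D.WW) (hw' : w' ∈ T.D.WW) (hn : n ∈ T.D.Nf) (hn' : n' ∈ T.D.Nf)
    (e : w * n = w' * n') : T.permNf ⟨n, hn⟩ = T.permNf ⟨n', hn'⟩ := by
  have h : n' * n⁻¹ ∈ T.D.Nf := mul_mem hn' (inv_mem hn)
  have h1 : T.permNf ⟨_, h⟩ = 1 := (T.permNf_eq_one h).2 (T.WW_inter_Nf (by
    rw [show n' * n⁻¹ = w'⁻¹ * (w' * n') * n⁻¹ by group, ← e, show w'⁻¹ * (w * n) * n⁻¹ = w'⁻¹ * w by group]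
    exact mul_mem (inv_mem hw') hw) h)
  have h2 : (⟨_, h⟩ : T.D.Nf) = ⟨n', hn'⟩ * (⟨n, hn⟩ : T.D.Nf)⁻¹ := rfl
  rw [h2, map_mul, map_inv, mul_inv_eq_one] at h1
  exact h1.symm

/-- The part normalising the coordinates of an element of the centraliser. -/
noncomputable def nfPart (g : T.C) : T.D.Nf :=
  ⟨(T.dec g).choose_spec.2.choose, (T.dec g).choose_spec.2.choose_spec.1⟩

theorem nfPart_spec (g : T.C) : ∃ w ∈ T.D.WW, g = w * (T.nfPart g : T.C) :=
  ⟨_, (T.dec g).choose_spec.1, (T.dec g).choose_spec.2.choose_spec.2⟩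

/-- The permutation of the frames induced by an element of the centraliser. -/
noncomputable def permC : T.C →* Equiv.Perm (Fin 3) :=
  MonoidHom.mk' (fun g => T.permNf (T.nfPart g)) fun g h => by
    obtain ⟨a, ha, ea⟩ := T.nfPart_spec g
    obtain ⟨b, hb, eb⟩ := T.nfPart_spec h
    obtain ⟨c, hc, ec⟩ := T.nfPart_spec (g * h)
    rw [← map_mul]
    obtain ⟨k, hk, hk'⟩ : ∃ k, k = (T.nfPart g : T.C) ∧ k ∈ T.D.Nf := ⟨_, rfl, (T.nfPart g).2⟩
    refine T.permNf_congr hc (w' := a * (k * b * k⁻¹)) (mul_mem ha (T.WW_normal.conj_mem _ hb _)) (T.nfPart (g * h)).2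
      (T.nfPart g * T.nfPart h).2 ?_
    rw [← ec, Subgroup.coe_mul, ← hk]
    calc g * h = a * k * (b * (T.nfPart h : T.C)) := by rw [hk, ← ea, ← eb]
      _ = a * (k * b * k⁻¹) * (k * (T.nfPart h : T.C)) := by group

theorem permC_dec {w n : T.C} (hw : w ∈ T.D.WW) (hn : n ∈ T.D.Nf) :
    T.permC (w * n) = perm T.S ⟨(n : G), T.mem_N_of_Nf hn⟩ := by
  obtain ⟨c, hc, ec⟩ := T.nfPart_spec (w * n)
  exact T.permNf_congr hc hw (T.nfPart (w * n)).2 hn ec.symm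

theorem permC_of_mem {n : T.C} (hn : (n : G) ∈ T.S.N) : T.permC n = perm T.S ⟨(n : G), hn⟩ := by
  have := T.permC_dec (one_mem _) (T.mem_Nf.2 hn)
  rwa [one_mul] at this

theorem permC_eq_one {g : T.C} : T.permC g = 1 ↔ g ∈ T.D.M0 := by
  obtain ⟨w, hw, n, hn, rfl⟩ := T.dec g
  rw [T.permC_dec hw hn, show perm T.S ⟨(n : G), T.mem_N_of_Nf hn⟩ = T.permNf ⟨n, hn⟩ from rfl, T.permNf_eq_one]
  constructor
  · exact fun h => ⟨w, hw, n, h, rfl⟩
  · rintro ⟨w', hw', n', hn', e⟩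
    have h := T.permNf_congr hw hw' hn (T.D.N_le_Nf hn') e
    rw [(T.permNf_eq_one (T.D.N_le_Nf hn')).2 hn'] at h
    exact (T.permNf_eq_one hn).1 h

theorem WW_perm {w : T.C} (hw : w ∈ T.D.WW) : T.permC w = 1 := T.permC_eq_one.2 (T.D.WW_le_M0 hw)

/-- The cycle of the frames in the centraliser of the involution. -/
theorem qu_mem_C : T.S.qu ∈ T.C :=
  mem_centralizer_singleton_iff.2 (T.S.mem_L.1 (T.S.U_le_L T.S.qu_mem)).2.eq

/-- The cycle as an element of the centraliser. -/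
abbrev quC : T.C := ⟨T.S.qu, T.qu_mem_C⟩

theorem qu_cycle : Equiv.Perm.sign (T.permC T.quC) = 1 ∧ T.permC T.quC ≠ 1 ∧ rot (T.permC T.quC) = 2 := by
  rw [T.permC_of_mem (n := T.quC) (qu_mem_N T.S)]
  exact qu_sign T.S

end Ctx

end Cfsg.Agent.O8Three.Finish
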