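import Cfsg.Agent.Lib.O8Three.Wreath.Cert

/-!
S3372: decidable facts about elementary groups of order eight among the codes, one of them exchanging two
factors, and the vectors moved by them into a given line.
-/

set_option autoImplicit false
set_option maxRecDepth 100000
set_option maxHeartbeats 4000000
set_option synthInstance.maxSize 2000

namespace Cfsg.Agent.O8Three.Finish.Codes

open Cfsg.Agent.O8Three.Wreath
open Cfsg.Agent.O8Three.Closed (V Code eC)

/-- A code moved by another one. -/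
def cj (w x : CodeW) : CodeW := mulW (mulW w x) (invW w)

/-- The standard exchange of two factors. -/
def pC : CodeW := (eC, 1)
/-- The standard involution on the two exchanged factors. -/
def qC : CodeW := ((1, 1, 0), 0)
/-- The standard involution on the third factor. -/
def rC : CodeW := ((0, 0, 1), 0)

/-- The elements generated by three commuting involutions. -/
def span (p q r : CodeW) : List CodeW :=
  [eW, p, q, r, mulW p q, mulW p r, mulW q r, mulW p (mulW q r)]

/-- The codes commuting with a given exchange. -/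
def cand (b : Fin 6) : List CodeW :=
  (([0, 1, 2, 3] : List (Fin 6)).flatMap fun x => ([0, 1, 2, 3] : List (Fin 6)).map fun y => (((x, x, y), 0) : CodeW)).filter
    fun w => decide (w ≠ eW ∧ mulW w ((0, 0, b), 1) = mulW ((0, 0, b), 1) w)

theorem step1 : ∀ p : CodeW, sgn p.2 ≠ 0 → ∃ i ∈ ([0, 4, 5] : List (Fin 6)), (cj (eC, i) p).2 = 1 := by
  decide +kernel

theorem step2 : ∀ c : Code, mulW (c, 1) (c, 1) = eW →
    cj ((0, c.1, 0), 0) (c, 1) = ((0, 0, c.2.2), 1) ∧ c.2.2 ∈ ([0, 1, 2, 3] : List (Fin 6)) := by decide +kernel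

theorem even_cand : ∀ w : CodeW, sgn w.2 = 0 → mulW w w = eW → w ≠ eW → ∀ b ∈ ([0, 1, 2, 3] : List (Fin 6)),
    mulW w ((0, 0, b), 1) = mulW ((0, 0, b), 1) w → w ∈ cand b := by decide +kernel

theorem step3 : ∀ b ∈ ([0, 1, 2, 3] : List (Fin 6)), ∀ q ∈ cand b, ∀ r ∈ cand b, q ≠ r → mulW q r = mulW r q →
    ∃ g ∈ ([1, 2, 3] : List (Fin 6)), ∃ h ∈ ([1, 2, 3] : List (Fin 6)),
      pC ∈ span ((0, 0, b), 1) q r ∧ ((g, g, 0), 0) ∈ span ((0, 0, b), 1) q r ∧
        ((0, 0, h), 0) ∈ span ((0, 0, b), 1) q r := by decide +kernel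

theorem step4 : ∀ g ∈ ([1, 2, 3] : List (Fin 6)), ∀ h ∈ ([1, 2, 3] : List (Fin 6)), ∃ k c : Fin 6,
    cj ((k, k, c), 0) pC = pC ∧ cj ((k, k, c), 0) ((g, g, 0), 0) = qC ∧ cj ((k, k, c), 0) ((0, 0, h), 0) = rC := by
  decide +kernel

theorem even_cent : ∀ w : CodeW, sgn w.2 = 0 → mulW w w = eW → mulW w pC = mulW pC w → mulW w qC = mulW qC w →
    mulW w rC = mulW rC w → w ∈ ([eW, qC, rC, mulW qC rC] : List CodeW) := by decide +kernel

theorem sgn_mul : ∀ p q : Fin 6, sgn (mulP p q) = sgn p + sgn q := by decide +kernel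

theorem span_sgn : sgn pC.2 ≠ 0 ∧ pC ≠ eW ∧ qC ≠ eW ∧ rC ≠ eW := by decide +kernel

/-- The vectors moved by the three standard involutions into a line. -/
def moved (v : V) : List V :=
  (List.finRange 256).filter fun w => decide ((appW pC w = w ∨ appW pC w ^^^ w = v) ∧
    (appW qC w = w ∨ appW qC w ^^^ w = v) ∧ (appW rC w = w ∨ appW rC w ^^^ w = v))

theorem moved_small : ∀ v : V, appW pC v = v → appW qC v = v → appW rC v = v → v ≠ 0 →
    (moved v).length ≤ 16 ∧ ∃ w ∈ moved v, w ≠ 0 ∧ w ≠ v ∧ ∀ x ∈ span pC qC rC, appW x w = w := by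
  decide +kernel

end Cfsg.Agent.O8Three.Finish.Codes
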