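import Cfsg.Agent.Lib.O8Three.Finish.Frattini
import Cfsg.Agent.Lib.LargeExtra.Setting
import Cfsg.Agent.Lib.Qd.Basic

/-!
S3372: the codes of the elements of the centraliser of the involution and its extraspecial core.
-/

set_option autoImplicit false
set_option linter.style.haveILetI false
set_option linter.unusedSectionVars false

namespace Cfsg.Agent.O8Three.Finish

open Subgroup
open Cfsg.Agent.O8Three.Wreath (CodeW mulW eW appW sgn)
open Cfsg.Agent.O8Three.Closed (V)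
open scoped commutatorElement

namespace Ctx

variable {G : Type*} [Group G] [Finite G] (T : Ctx G)

theorem code_exists (g : T.C) : ∃ w, T.D.toHyp.Acts (T.D.π g) w :=
  T.D.toHyp.act _ ⟨g, T.top.symm ▸ mem_top g, rfl⟩

/-- The code of an element of the centraliser. -/
noncomputable def cd (g : T.C) : CodeW := (T.code_exists g).choose

theorem cd_spec (g : T.C) : T.D.toHyp.Acts (T.D.π g) (T.cd g) := (T.code_exists g).choose_spec

theorem cd_eq {g : T.C} {w : CodeW} (h : T.D.toHyp.Acts (T.D.π g) w) : T.cd g = w :=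
  T.D.toHyp.acts_unique (T.cd_spec g) h

theorem cd_one : T.cd 1 = eW := T.cd_eq (by rw [map_one]; exact T.D.toHyp.acts_one)

theorem cd_mul (g h : T.C) : T.cd (g * h) = mulW (T.cd g) (T.cd h) := T.cd_eq (by
  rw [map_mul]
  exact T.D.toHyp.acts_comp (T.cd_spec g) (T.cd_spec h))

theorem cd_inv (g : T.C) : T.cd g⁻¹ = Wreath.invW (T.cd g) := Wreath.invW_unique (by
  have h : mulW (T.cd g⁻¹) (T.cd g) = eW := by rw [← T.cd_mul, inv_mul_cancel, T.cd_one]
  have h2 : mulW (T.cd g) (T.cd g⁻¹) = eW := by rw [← T.cd_mul, mul_inv_cancel, T.cd_one]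
  have key : ∀ a, Wreath.invW (Wreath.invW a) = a := by decide +kernel
  rw [key, h2])

theorem cd_WW {w : T.C} (hw : w ∈ T.D.WW) : T.cd w = eW :=
  T.cd_eq (T.D.actsW_of (T.D.acts_WW hw))

theorem cd_eq_eW {g : T.C} : T.cd g = eW ↔ g ∈ T.D.WW := by
  refine ⟨fun h => T.D.mem_WW_of_π ?_, T.cd_WW⟩
  obtain ⟨v, hv⟩ := T.D.toHyp.eW_of_acts (m := T.D.π g) ⟨g, T.top.symm ▸ mem_top g, rfl⟩ (h ▸ T.cd_spec g)
  exact hv ▸ T.D.F_mem v

theorem cd_M0 {g : T.C} : (T.cd g).2 = 0 ↔ g ∈ T.D.M0 := by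
  constructor
  · intro h
    refine T.D.mem_M0_of_code (c := (T.cd g).1) (T.top.symm ▸ mem_top g) ?_
    have h2 := T.cd_spec g
    rwa [← h] at *
  · rintro ⟨w, hw, n, hn, rfl⟩
    obtain ⟨c, hc⟩ := T.D.N_word hn
    rw [T.cd_mul, T.cd_WW hw, T.cd_eq (T.D.actsW_congr hc (T.D.actsW_of (T.D.acts_word c))),
      (Wreath.mulW_eW _).2]

/-- The permutation of the vectors induced by an element of the centraliser. -/
noncomputable def vperm : T.C →* Equiv.Perm V :=
  MonoidHom.mk' (fun g => ⟨appW (T.cd g), appW (T.cd g⁻¹),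
      fun v => by rw [← Wreath.app_mul, ← T.cd_mul, inv_mul_cancel, T.cd_one, Wreath.appW_eW],
      fun v => by rw [← Wreath.app_mul, ← T.cd_mul, mul_inv_cancel, T.cd_one, Wreath.appW_eW]⟩)
    fun g h => Equiv.ext fun v => by
      show appW (T.cd (g * h)) v = appW (T.cd g) (appW (T.cd h) v)
      rw [T.cd_mul, Wreath.app_mul]

theorem vperm_inj {g h : T.C} : T.vperm g = T.vperm h ↔ T.cd g = T.cd h := by
  constructor
  · exact fun e => Wreath.appW_inj fun v => congrArg (fun σ : Equiv.Perm V => σ v) e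
  · intro e
    ext v
    exact congrArg Fin.val (congrArg (fun w => appW w v) e)

theorem vperm_ker : T.vperm.ker = T.D.WW := by
  ext g
  rw [MonoidHom.mem_ker, ← map_one T.vperm, T.vperm_inj, T.cd_one, T.cd_eq_eW]

/-- The order of a subgroup is the product of the orders of its part in the core and of its codes. -/
theorem card_codes (P : Subgroup T.C) :
    Nat.card P = Nat.card (P ⊓ T.D.WW : Subgroup T.C) * (T.cd '' P).ncard := by
  have h1 := ((T.vperm.comp P.subtype).ker).card_mul_index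
  rw [index_ker] at h1
  rw [← h1]
  congr 1
  · rw [← MonoidHom.comap_ker, T.vperm_ker]
    exact Nat.card_congr ⟨fun x => ⟨x.1.1, x.1.2, x.2⟩, fun x => ⟨⟨x.1, x.2.1⟩, x.2.2⟩, fun _ => rfl,
      fun _ => rfl⟩
  · rw [show ((T.vperm.comp P.subtype).range : Subgroup (Equiv.Perm V)) = P.map T.vperm by
      rw [MonoidHom.range_comp, range_subtype], ← SetLike.coe_sort_coe, Nat.card_coe_set_eq, coe_map]
    have hinj : Function.Injective (fun w : CodeW => appW w) := fun a b e => Wreath.appW_inj (congrFun e)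
    rw [← Set.ncard_image_of_injective (T.cd '' P) hinj, Set.image_image,
      ← Set.ncard_image_of_injective (T.vperm '' P)
        (f := fun σ : Equiv.Perm V => (σ : V → V)) DFunLike.coe_injective, Set.image_image]
    rfl

theorem π_WW_comm {x y : T.C} (hx : x ∈ T.D.WW) (hy : y ∈ T.D.WW) : x * y = y * x ∨ x * y = y * x * T.D.z :=
  T.D.π_eq.1 (by rw [map_mul, map_mul]; exact T.D.U_comm ⟨x, hx, rfl⟩ ⟨y, hy, rfl⟩)

theorem π_WW_sq {x : T.C} (hx : x ∈ T.D.WW) : x * x = 1 ∨ x * x = T.D.z :=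
  T.D.π_eq_one.1 (by rw [map_mul]; exact T.D.U_sq ⟨x, hx, rfl⟩)

theorem t_order : orderOf T.S.F.t = 2 :=
  orderOf_eq_prime (by rw [pow_two, T.S.t_sq]) T.S.t_not_one

/-- The core is extraspecial. -/
theorem WW_extra : IsExtraspecial 2 T.D.WW := by
  haveI : Fact (Nat.Prime 2) := ⟨Nat.prime_two⟩
  have hzo : orderOf (⟨T.D.z, T.D.z_mem_WW⟩ : T.D.WW) = 2 := orderOf_eq_prime
    (Subtype.ext (by rw [pow_two]; exact T.D.zz)) fun h => T.D.z_ne (congrArg Subtype.val h)
  refine LargeExtra.isExtraspecial_of T.card_two_WW hzo (fun x => ⟨fun hc => ?_, fun hx y => ?_⟩)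
    (fun x y => ?_) (fun x => ?_) ?_
  · rcases T.D.center_WW x.2 fun y hy => congrArg Subtype.val (hc ⟨y, hy⟩) with h | h
    · exact (Subtype.ext h : x = 1) ▸ one_mem _
    · exact (Subtype.ext h : x = ⟨T.D.z, T.D.z_mem_WW⟩) ▸ mem_zpowers _
  · obtain ⟨k, rfl⟩ := mem_zpowers_iff.1 hx
    exact (Commute.zpow_left (Subtype.ext (T.D.zc y.1) : Commute (⟨T.D.z, T.D.z_mem_WW⟩ : T.D.WW) y) k).eq
  · rcases T.π_WW_comm x.2 y.2 with h | h
    · exact (show ⁅x, y⁆ = 1 from commutatorElement_eq_one_iff_mul_comm.2 (Subtype.ext h)) ▸ one_mem _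
    · refine (show ⁅x, y⁆ = ⟨T.D.z, T.D.z_mem_WW⟩ from Subtype.ext ?_) ▸ mem_zpowers _
      show (x : T.C) * y * (x : T.C)⁻¹ * (y : T.C)⁻¹ = T.D.z
      rw [h, mul_assoc (y : T.C) x, ← T.D.zc x]
      calc (y : T.C) * (T.D.z * x) * (x : T.C)⁻¹ * (y : T.C)⁻¹ = (y : T.C) * T.D.z * (y : T.C)⁻¹ := by group
        _ = T.D.z := by rw [T.D.central, mul_inv_cancel_right]
  · rcases T.π_WW_sq x.2 with h | h
    · exact (show x ^ 2 = 1 from Subtype.ext (by rw [pow_two]; exact h)) ▸ one_mem _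
    · exact (show x ^ 2 = ⟨T.D.z, T.D.z_mem_WW⟩ from Subtype.ext (by rw [pow_two]; exact h)) ▸ mem_zpowers _
  · obtain ⟨a, ha, b, hb, hab⟩ := T.D.W_nonab false false
    exact ⟨⟨a, T.D.W_le_WW _ _ ha⟩, ⟨b, T.D.W_le_WW _ _ hb⟩, fun h => hab (congrArg Subtype.val h)⟩

/-- The core in the whole group. -/
noncomputable abbrev WG : Subgroup G := T.D.WW.map T.C.subtype

theorem card_WG : Nat.card T.WG = 512 := by
  rw [card_map_of_injective T.C.subtype_injective, T.D.card_WW]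

theorem xsLocal : LargeExtra.XSLocal T.WG T.S.F.t := by
  refine LargeExtra.XSLocal.of_core T.t_order (Qd.isExtraspecial_congr
    (T.D.WW.equivMapOfInjective _ T.C.subtype_injective).symm T.WW_extra) (T.hz ▸ ⟨_, T.D.z_mem_WW, rfl⟩) (map_subtype_le _)
    (fun c hc => ?_) (LargeExtra.normalizer_of_map_normal T.WW_normal)
  have hc' := mem_centralizer_iff.1 hc
  have hcC : c ∈ T.C := mem_centralizer_singleton_iff.2
    (hc' _ (T.hz ▸ ⟨_, T.D.z_mem_WW, rfl⟩ : T.S.F.t ∈ T.WG)).symm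
  rcases T.D.cent_WW_le (g := ⟨c, hcC⟩) (T.top.symm ▸ mem_top _)
    (fun y hy => Subtype.ext (hc' _ ⟨y, hy, rfl⟩).symm) with h | h
  · exact ⟨1, one_mem _, (congrArg Subtype.val h).symm⟩
  · exact ⟨_, T.D.z_mem_WW, (congrArg Subtype.val h).symm⟩

end Ctx

end Cfsg.Agent.O8Three.Finish
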