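import Cfsg.Agent.Lib.O8Three.Finish.Frattini
import Cfsg.Agent.S3345
import Cfsg.Agent.Lib.LargeExtra.Basic
import Cfsg.Agent.Lib.Components.Local

/-!
S3372: the last step, when the normal closure of the torus meets the centraliser of the involution in the part
without permutation of the frames.
-/

set_option autoImplicit false
set_option linter.style.haveILetI false
set_option linter.unusedSectionVars false
set_option maxRecDepth 20000
set_option synthInstance.maxSize 5000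

namespace Cfsg.Agent.O8Three.Finish

open Subgroup
open Cfsg.Agent.O8Three.Closed (Code mulS mulC eC)

/-- A map of the plane as a permutation of its three points. -/
def pts : Fin 6 → Equiv.Perm (Fin 3)
  | 0 => 1
  | 1 => Equiv.swap 0 1
  | 2 => Equiv.swap 1 2
  | 3 => Equiv.swap 0 2
  | 4 => Equiv.swap 0 1 * Equiv.swap 1 2
  | 5 => Equiv.swap 1 2 * Equiv.swap 0 1

theorem pts_mul : ∀ a b : Fin 6, pts (mulS a b) = pts a * pts b := by decide +kernel

theorem pts_bij : (∀ s : Equiv.Perm (Fin 3), ∃ a, pts a = s) ∧ ∀ a : Fin 6, pts a = 1 → a = 0 := by decide +kernel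

theorem comm_three : ∀ a : Equiv.Perm (Fin 3), a ≠ 1 →
    ∃ s : Equiv.Perm (Fin 3), s * a * s⁻¹ * a⁻¹ ≠ 1 ∧ (s * a * s⁻¹ * a⁻¹) * (s * a * s⁻¹ * a⁻¹) * (s * a * s⁻¹ * a⁻¹) = 1 := by
  decide +kernel

/-- Three copies of the symmetric group of degree three. -/
abbrev P3 : Type := Equiv.Perm (Fin 3) × Equiv.Perm (Fin 3) × Equiv.Perm (Fin 3)

/-- A code as three permutations. -/
def ptsC (c : Code) : P3 := (pts c.1, pts c.2.1, pts c.2.2)

theorem ptsC_mul (a b : Code) : ptsC (mulC a b) = ptsC a * ptsC b := by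
  simp only [ptsC, mulC, pts_mul, Prod.mk_mul_mk]

theorem two_cube {G : Type*} [Group G] [Finite G] {K : Subgroup G} (hK : IsPGroup 2 K) {x : G} (hx : x ∈ K)
    (h : x * x * x = 1) : x = 1 := by
  obtain ⟨k, hk⟩ := hK ⟨x, hx⟩
  have h2 : x ^ (2 ^ k) = 1 := congrArg Subtype.val hk
  have h3 : x ^ 3 = 1 := by rw [pow_succ, pow_two, h]
  have h1 := pow_gcd_eq_one.2 ⟨h3, h2⟩
  rwa [Nat.Coprime.gcd_eq_one (Nat.Coprime.pow_right k (by norm_num)), pow_one] at h1

theorem pCore_P3 : Cfsg.pCore 2 P3 = ⊥ := by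
  have hn := FittingCores.pCore_normal (G := P3) 2
  have hp := FittingCores.pCore_isPGroup (G := P3) 2
  refine eq_bot_iff.2 fun x hx => ?_
  obtain ⟨a, b, c⟩ := x
  have key : ∀ g : P3, g * (a, b, c) * g⁻¹ * (a, b, c)⁻¹ ∈ Cfsg.pCore 2 P3 := fun g =>
    mul_mem (hn.conj_mem _ hx g) (inv_mem hx)
  refine mem_bot.2 ?_
  have ha : a = 1 := by
    by_contra h
    obtain ⟨s, h1, h3⟩ := comm_three a h
    have := two_cube hp (key (s, 1, 1)) (by simpa [Prod.ext_iff] using h3)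
    exact h1 (congrArg Prod.fst this)
  have hb : b = 1 := by
    by_contra h
    obtain ⟨s, h1, h3⟩ := comm_three b h
    have := two_cube hp (key (1, s, 1)) (by simpa [Prod.ext_iff] using h3)
    exact h1 (congrArg (fun p : P3 => p.2.1) this)
  have hc : c = 1 := by
    by_contra h
    obtain ⟨s, h1, h3⟩ := comm_three c h
    have := two_cube hp (key (1, 1, s)) (by simpa [Prod.ext_iff] using h3)
    exact h1 (congrArg (fun p : P3 => p.2.2) this)
  rw [ha, hb, hc]
  rfl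

theorem card_perm_three {H : Subgroup (Equiv.Perm (Fin 3))} {σ : Equiv.Perm (Fin 3)} (hσ : σ ∈ H)
    (hs : Equiv.Perm.sign σ = 1) (h1 : σ ≠ 1) : Nat.card H = 3 ∨ Nat.card H = 6 := by
  haveI : Fact (Nat.Prime 3) := ⟨Nat.prime_three⟩
  have h3 : orderOf σ = 3 := orderOf_eq_prime (by rw [pow_succ, pow_two]; exact perm_facts.2.1 σ hs) h1
  have hd := Subgroup.orderOf_dvd_natCard H hσ
  rw [h3] at hd
  have h6 : Nat.card H ∣ 6 := by
    have := H.card_subgroup_dvd_card
    rwa [Nat.card_eq_fintype_card (α := Equiv.Perm (Fin 3)), Fintype.card_perm, Fintype.card_fin] at this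
  have hle := Nat.le_of_dvd (by norm_num) h6
  have hpos : 0 < Nat.card H := Nat.card_pos
  obtain ⟨k, hk⟩ := hd
  omega

end Cfsg.Agent.O8Three.Finish

namespace Cfsg.Agent.O8Three.Cube.Data

open Subgroup
open Cfsg.Agent.O8Three.Closed (Code mulC eC)

variable {H : Type*} [Group H] (D : Data H) [Finite H]

theorem exists_code {g : H} (hg : g ∈ D.M0) : ∃ c, D.Acts g c := by
  obtain ⟨w, hw, n, hn, rfl⟩ := hg
  obtain ⟨c, hc⟩ := D.N_word hn
  exact ⟨mulC eC c, D.acts_mul (D.acts_WW hw) fun v => by rw [hc]; exact D.acts_word c v⟩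

theorem code_unique {g : H} {c d : Code} (hc : D.Acts g c) (hd : D.Acts g d) : c = d :=
  code_ext fun v => D.F_inj ((hc v).symm.trans (hd v))

/-- The code of a member without permutation. -/
noncomputable def codeOf (g : D.M0) : Code := (D.exists_code g.2).choose

theorem codeOf_spec (g : D.M0) : D.Acts g (D.codeOf g) := (D.exists_code g.2).choose_spec

/-- The action modulo the core as three permutations. -/
noncomputable def toP3 : D.M0 →* Finish.P3 :=
  MonoidHom.mk' (fun g => Finish.ptsC (D.codeOf g)) fun g h => by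
    rw [← Finish.ptsC_mul]
    refine congrArg _ (D.code_unique (D.codeOf_spec (g * h)) ?_)
    rw [Subgroup.coe_mul]
    exact D.acts_mul (D.codeOf_spec g) (D.codeOf_spec h)

theorem toP3_surj : Function.Surjective D.toP3 := by
  rintro ⟨a, b, c⟩
  obtain ⟨i, rfl⟩ := Finish.pts_bij.1 a
  obtain ⟨j, rfl⟩ := Finish.pts_bij.1 b
  obtain ⟨k, rfl⟩ := Finish.pts_bij.1 c
  refine ⟨⟨D.word (i, j, k), D.N_le_M0 (D.word_mem _)⟩, ?_⟩
  show Finish.ptsC _ = _
  rw [D.code_unique (D.codeOf_spec _) (D.acts_word (i, j, k))]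
  rfl

theorem toP3_ker (h : D.Mt = ⊤) {g : D.M0} : D.toP3 g = 1 ↔ (g : H) ∈ D.WW := by
  constructor
  · intro e
    have e0 : D.codeOf g = eC := by
      have e' : Finish.ptsC (D.codeOf g) = 1 := e
      simp only [Finish.ptsC, Prod.ext_iff, Prod.fst_one, Prod.snd_one] at e'
      exact Prod.ext (Finish.pts_bij.2 _ e'.1) (Prod.ext (Finish.pts_bij.2 _ e'.2.1) (Finish.pts_bij.2 _ e'.2.2))
    have hc := D.codeOf_spec g
    rw [e0] at hc
    obtain ⟨v, hv⟩ := D.toHyp.cen (D.π g) ⟨g, h.symm ▸ mem_top _, rfl⟩ fun v => by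
      show D.π g * D.F v = D.F v * D.π g
      have hv := hc v
      rw [app_eC, mul_inv_eq_iff_eq_mul] at hv
      exact hv
    exact D.mem_WW_of_π (hv ▸ D.F_mem v)
  · intro hw
    show Finish.ptsC _ = _
    rw [D.code_unique (D.codeOf_spec g) (D.acts_WW hw)]
    rfl

end Cfsg.Agent.O8Three.Cube.Data

namespace Cfsg.Agent.O8Three.Finish

open Subgroup

namespace Ctx

variable {G : Type*} [Group G] [Finite G] (T : Ctx G)

theorem A_le_of_p2 {O : Subgroup G} [O.Normal] (h : T.S.K.p2 ∈ O) : T.S.K.A ≤ O := by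
  have hone : ∀ v : V4, qf v = 1 → T.S.K.φ v ∈ O := by
    intro v hv
    obtain ⟨l1, -, h1⟩ := toE_all b2 norms_b.1
    obtain ⟨l2, -, h2⟩ := toE_all v hv
    obtain ⟨n1, hn1⟩ := T.S.lift_word l1
    obtain ⟨n2, hn2⟩ := T.S.lift_word l2
    have e1 : n1 * T.S.K.φ e0v * n1⁻¹ = T.S.K.φ b2 := by rw [hn1, h1]
    have e2 : n2 * T.S.K.φ e0v * n2⁻¹ = T.S.K.φ v := by rw [hn2, h2]
    rw [← T.S.K.φ_b2, ← e1] at h
    have h3 := (‹O.Normal›).conj_mem _ h (n2 * n1⁻¹)
    rw [← e2]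
    convert h3 using 1
    group
  obtain ⟨e1, e3, e4⟩ := evv_basis
  have he : ∀ i, T.S.K.φ (evv i) ∈ O := fun i => hone _ (evv_norm i).1
  have he1 : T.S.K.φ b1 ∈ O := by
    rw [e1, T.S.K.φ_add, T.S.K.φ_add]
    exact mul_mem (mul_mem (he 0) (he 1)) (he 2)
  rw [T.S.K.gen, closure_le]
  intro x hx
  simp only [Set.mem_insert_iff, Set.mem_singleton_iff] at hx
  rcases hx with rfl | rfl | rfl | rfl
  · rw [← T.S.K.φ_b1]; exact he1
  · exact h
  · rw [← T.S.K.φ_b3, e3, T.S.K.φ_add, T.S.φ_neg]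
    exact mul_mem (he 1) (inv_mem (he 2))
  · rw [← T.S.K.φ_b4, e4, T.S.K.φ_add]
    exact mul_mem (he 0) he1

theorem index_X (hX : ∀ g : T.C, (g : G) ∈ T.X → T.permC g = 1) : T.X.index = 3 ∨ T.X.index = 6 := by
  haveI : T.X.Normal := normalClosure_normal
  have hker : T.permC.ker = T.X.subgroupOf T.C := by
    ext g
    rw [MonoidHom.mem_ker, mem_subgroupOf]
    exact ⟨T.M0_le_X, hX g⟩
  have hidx : T.X.index = Nat.card T.permC.range := by
    rw [← index_ker, hker]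
    show T.X.index = T.X.relIndex T.C
    rw [← relIndex_sup_right, sup_comm, T.frattini, relIndex_top_right]
  rw [hidx]
  obtain ⟨hs, h1, -⟩ := T.qu_cycle
  exact card_perm_three ⟨T.quC, rfl⟩ hs h1

theorem cent_X : centralizer (T.X : Set G) = ⊥ := by
  refine eq_bot_iff.2 fun g hg => ?_
  rw [mem_centralizer_iff] at hg
  have hA : g ∈ T.S.K.A := T.S.cent_A fun a ha => (hg a (T.A_le_X ha)).symm
  have ht : Commute T.S.F.t g := hg _ T.t_mem_X
  have hgC : g ∈ T.C := mem_centralizer_singleton_iff.2 ht.symm.eq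
  rcases T.D.cent_WW_le (g := ⟨g, hgC⟩) (T.top.symm ▸ mem_top _)
      (fun y hy => Subtype.ext (hg _ (T.WW_le_X ⟨y, hy, rfl⟩)).symm) with h | h
  · exact mem_bot.2 (congrArg Subtype.val h)
  · exfalso
    have e : g = T.S.F.t := by rw [← T.hz]; exact congrArg Subtype.val h
    have h3 := T.S.K.exp _ hA
    rw [e, pow_succ, pow_two, T.S.t_sq, one_mul] at h3
    exact T.S.t_not_one h3

/-- The involution as a member of the normal closure. -/
abbrev tX : T.X := ⟨T.S.F.t, T.t_mem_X⟩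

/-- The centraliser of the involution in the normal closure. -/
abbrev L : Subgroup T.X := centralizer ({T.tX} : Set T.X)

theorem coe_L_mem (x : T.L) : ((x : T.X) : G) ∈ T.C :=
  mem_centralizer_singleton_iff.2 (congrArg Subtype.val (mem_centralizer_singleton_iff.1 x.2))

/-- The inclusion in the centraliser of the involution. -/
def inc : T.L →* T.C :=
  MonoidHom.mk' (fun x => ⟨((x : T.X) : G), T.coe_L_mem x⟩) fun _ _ => rfl

theorem inc_coe (x : T.L) : (T.inc x : G) = ((x : T.X) : G) := rfl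

theorem inc_inj : Function.Injective T.inc := fun x y h =>
  Subtype.ext (Subtype.ext (show (T.inc x : G) = T.inc y from congrArg Subtype.val h))

theorem tX_order : orderOf T.tX = 2 := by
  haveI : Fact (Nat.Prime 2) := ⟨Nat.prime_two⟩
  refine orderOf_eq_prime (Subtype.ext ?_) fun e => T.S.t_not_one (congrArg Subtype.val e)
  show T.S.F.t ^ 2 = 1
  rw [pow_two]
  exact T.S.t_sq

theorem mem_L_of (g : T.C) (hg : (g : G) ∈ T.X) : (⟨(g : G), hg⟩ : T.X) ∈ T.L :=
  mem_centralizer_singleton_iff.2 (Subtype.ext (mem_centralizer_singleton_iff.1 g.2))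

/-- The core of the centraliser in the normal closure. -/
noncomputable def core : Subgroup T.L := T.D.WW.comap T.inc

theorem mem_core {x : T.L} : x ∈ T.core ↔ T.inc x ∈ T.D.WW := Iff.rfl

theorem core_map : T.core.map T.inc = T.D.WW := map_comap_eq_self fun w hw =>
  ⟨⟨⟨(w : G), T.WW_le_X ⟨w, hw, rfl⟩⟩, T.mem_L_of w _⟩, rfl⟩

theorem card_core : Nat.card T.core = 512 := by
  rw [← card_map_of_injective T.inc_inj, T.core_map, T.D.card_WW]

theorem core_two : IsPGroup 2 T.core := IsPGroup.of_card (n := 9) (by rw [T.card_core]; norm_num)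

theorem core_normal : T.core.Normal :=
  haveI := T.WW_normal
  inferInstanceAs (T.D.WW.comap T.inc).Normal

theorem core_extraspecial : Cfsg.IsExtraspecial 2 T.core := by
  obtain ⟨z, hz⟩ : ∃ z : T.core, (T.inc z : T.C) = T.D.z := by
    refine ⟨⟨⟨T.tX, mem_centralizer_singleton_iff.2 rfl⟩, ?_⟩, Subtype.ext (T.hz.symm)⟩
    rw [T.mem_core]
    convert T.D.z_mem_WW using 1
    exact Subtype.ext T.hz.symm
  have hzp : ∀ x : T.core, T.inc x = 1 ∨ T.inc x = T.D.z → x ∈ zpowers z := by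
    intro x hx
    rcases hx with h | h
    · rw [show x = 1 from Subtype.ext (T.inc_inj (h.trans (map_one T.inc).symm))]
      exact one_mem _
    · rw [show x = z from Subtype.ext (T.inc_inj (h.trans hz.symm))]
      exact mem_zpowers z
  have hπ : ∀ x : T.core, T.D.π (T.inc x) ∈ T.D.U := fun x => ⟨_, x.2, rfl⟩
  refine LargeExtra.isExtraspecial_of T.core_two (z := z) ?_ (fun x => ⟨fun h => ?_, fun h y => ?_⟩)
    (fun x y => ?_) (fun x => ?_) ?_
  · rw [← orderOf_coe, ← orderOf_injective T.inc T.inc_inj, hz]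
    haveI : Fact (Nat.Prime 2) := ⟨Nat.prime_two⟩
    exact orderOf_eq_prime (by rw [pow_two]; exact T.D.zz) T.D.z_ne
  · refine hzp x (T.D.center_WW x.2 fun y hy => ?_)
    obtain ⟨y', hy', rfl⟩ := (T.core_map.symm ▸ hy : y ∈ T.core.map T.inc)
    rw [← map_mul, ← map_mul]
    exact congrArg T.inc (congrArg Subtype.val (h ⟨y', hy'⟩))
  · refine Subtype.ext (T.inc_inj ?_)
    obtain ⟨k, rfl⟩ := mem_zpowers_iff.1 h
    rw [Subgroup.coe_mul, Subgroup.coe_mul, map_mul, map_mul, SubgroupClass.coe_zpow, map_zpow, hz]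
    exact (Commute.zpow_left (T.D.central _).symm k).eq
  · refine hzp _ (T.D.π_eq_one.1 ?_)
    simp only [commutatorElement_def, Subgroup.coe_mul, InvMemClass.coe_inv, map_mul, map_inv]
    rw [T.D.U_comm (hπ x) (hπ y)]
    group
  · refine hzp _ (T.D.π_eq_one.1 ?_)
    rw [pow_two, Subgroup.coe_mul, map_mul, map_mul]
    exact T.D.U_sq (hπ x)
  · obtain ⟨a, ha, b, hb, hab⟩ := T.D.W_nonab false false
    obtain ⟨a', ha', rfl⟩ := (T.core_map.symm ▸ T.D.W_le_WW _ _ ha : a ∈ T.core.map T.inc)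
    obtain ⟨b', hb', rfl⟩ := (T.core_map.symm ▸ T.D.W_le_WW _ _ hb : b ∈ T.core.map T.inc)
    refine ⟨⟨a', ha'⟩, ⟨b', hb'⟩, fun h => hab ?_⟩
    rw [← map_mul, ← map_mul]
    exact congrArg T.inc (congrArg Subtype.val h)

/-- The inclusion in the part without permutation. -/
noncomputable def incM (hX : ∀ g : T.C, (g : G) ∈ T.X → T.permC g = 1) : T.L →* T.D.M0 :=
  T.inc.codRestrict T.D.M0 fun x => T.permC_eq_one.1 (hX _ (x : T.X).2)

/-- The action on the core as three permutations. -/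
noncomputable def toP3 (hX : ∀ g : T.C, (g : G) ∈ T.X → T.permC g = 1) : T.L →* P3 :=
  T.D.toP3.comp (T.incM hX)

theorem toP3_surj (hX : ∀ g : T.C, (g : G) ∈ T.X → T.permC g = 1) : Function.Surjective (T.toP3 hX) := by
  intro p
  obtain ⟨⟨m, hm⟩, rfl⟩ := T.D.toP3_surj p
  exact ⟨⟨⟨(m : G), T.M0_le_X (T.permC_eq_one.2 hm)⟩, T.mem_L_of m _⟩, congrArg T.D.toP3 (Subtype.ext rfl)⟩

theorem toP3_ker (hX : ∀ g : T.C, (g : G) ∈ T.X → T.permC g = 1) : (T.toP3 hX).ker = T.core := by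
  ext x
  rw [MonoidHom.mem_ker, T.mem_core]
  exact T.D.toP3_ker T.top

theorem pCore_L (hX : ∀ g : T.C, (g : G) ∈ T.X → T.permC g = 1) : Cfsg.pCore 2 T.L = T.core := by
  refine le_antisymm ?_ (FittingCores.le_pCore T.core_normal T.core_two)
  rw [← T.toP3_ker hX, ← MonoidHom.comap_bot, ← map_le_iff_le_comap, ← pCore_P3]
  exact FittingCores.pCore_map_le 2 (T.toP3_surj hX)

/-- The normal closure of the torus is the group of the quadric. -/
theorem X_equiv (hX : ∀ g : T.C, (g : G) ∈ T.X → T.permC g = 1) :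
    Nonempty (T.X ≃* Cfsg.Omega (ZMod 2) (Cfsg.quadFormPlus 4 (ZMod 2))) := by
  haveI : Fact (Nat.Prime 2) := ⟨Nat.prime_two⟩
  haveI : T.X.Normal := normalClosure_normal
  haveI := FittingCores.pCore_normal (G := T.L) 2
  have hco := T.pCore_L hX
  have hcc : centralizer (((Cfsg.pCore 2 T.L).map T.L.subtype : Subgroup T.X) : Set T.X) ≤
      (Cfsg.pCore 2 T.L).map T.L.subtype := by
    rw [hco]
    intro y hy
    rw [mem_centralizer_iff] at hy
    have hmem : ∀ w ∈ T.D.WW, ∃ hw : (w : G) ∈ T.X, (⟨(w : G), hw⟩ : T.X) ∈ (T.core.map T.L.subtype : Subgroup T.X) :=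
      fun w hw => ⟨T.WW_le_X ⟨w, hw, rfl⟩, ⟨⟨_, T.mem_L_of w _⟩, hw, rfl⟩⟩
    obtain ⟨hzX, hzc⟩ := hmem _ T.D.z_mem_WW
    have hyC : (y : G) ∈ T.C := mem_centralizer_singleton_iff.2 (by
      rw [← T.hz]; exact (congrArg Subtype.val (hy _ hzc)).symm)
    refine ⟨⟨y, T.mem_L_of ⟨(y : G), hyC⟩ y.2⟩, ?_, rfl⟩
    show (⟨(y : G), hyC⟩ : T.C) ∈ T.D.WW
    rcases T.D.cent_WW_le (g := ⟨(y : G), hyC⟩) (T.top.symm ▸ mem_top _) (fun w hw => by
      obtain ⟨hw', hwc⟩ := hmem w hw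
      exact Subtype.ext (congrArg Subtype.val (hy _ hwc)).symm) with h | h <;> rw [h]
    exacts [one_mem _, T.D.z_mem_WW]
  have hcL : centralizer (Cfsg.pCore 2 T.L : Set T.L) ≤ Cfsg.pCore 2 T.L := by
    intro x hx
    rw [mem_centralizer_iff] at hx
    obtain ⟨x', hx', e⟩ := hcc (show (x : T.X) ∈ _ from mem_centralizer_iff.2 (by
      rintro _ ⟨u, hu, rfl⟩
      exact congrArg Subtype.val (hx u hu)))
    exact Subtype.ext e ▸ hx'
  have hgf := (Components.generalizedFitting_eq_pCore_iff (G := T.L) (p := 2)).2 hcL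
  have e : T.L ⧸ Cfsg.pCore 2 T.L ≃* P3 :=
    (QuotientGroup.quotientMulEquivOfEq (hco.trans (T.toP3_ker hX).symm)).trans
      (QuotientGroup.quotientKerEquivOfSurjective _ (T.toP3_surj hX))
  have hF : Cfsg.IsExtraspecial 2 (Cfsg.generalizedFittingSubgroup T.L) := by
    rw [hgf, hco]; exact T.core_extraspecial
  have hFc : Nat.card (Cfsg.generalizedFittingSubgroup T.L) = 2 ^ 9 := by
    rw [hgf, hco, T.card_core]; norm_num
  refine (Agent.S3345.result T.residual_X T.tX T.tX_order T.L rfl hF hFc e hcc).resolve_left fun h => ?_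
  have h2 := h ⟨T.S.K.p2, T.A_le_X T.S.K.m2⟩
  haveI : (Cfsg.oddCore G).Normal := FittingCores.pPrimeCore_normal 2
  have h3 : T.S.K.p2 * T.S.F.t * T.S.K.p2⁻¹ * T.S.F.t⁻¹ ∈ Cfsg.oddCore G :=
    FittingCores.pPrimeCore_map_subtype_le 2 normalClosure_normal ⟨_, h2, rfl⟩
  have hinv : T.S.F.t * T.S.K.p2⁻¹ * T.S.F.t⁻¹ = T.S.K.p2 := by
    rw [← conj_inv, ← T.S.K.φ_b2, T.S.acts_t, show app MT b2 = -b2 from by decide, T.S.φ_neg, inv_inv]
  rw [show T.S.K.p2 * T.S.F.t * T.S.K.p2⁻¹ * T.S.F.t⁻¹ = T.S.K.p2 * (T.S.F.t * T.S.K.p2⁻¹ * T.S.F.t⁻¹) by group,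
    hinv] at h3
  have hp2 : T.S.K.p2 ∈ Cfsg.oddCore G := by
    have h4 := mul_mem h3 h3
    rwa [← pow_two T.S.K.p2, ← pow_add, show 2 + 2 = 3 + 1 from rfl, pow_add, T.S.K.exp _ T.S.K.m2, one_mul,
      pow_one] at h4
  have ht : T.S.F.t ∈ Cfsg.oddCore G := normalClosure_le_normal (T.A_le_of_p2 hp2) T.t_mem_X
  refine T.S.t_not_one ?_
  have hodd := FittingCores.pPrimeCore_coprime (G := G) 2
  have h5 : (⟨_, ht⟩ : Cfsg.oddCore G) ^ 2 = 1 := Subtype.ext (by
    show T.S.F.t ^ 2 = 1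
    rw [pow_two]; exact T.S.t_sq)
  have h6 := pow_gcd_eq_one.2 ⟨h5, pow_card_eq_one' (x := (⟨_, ht⟩ : Cfsg.oddCore G))⟩
  rw [Nat.Coprime.gcd_eq_one hodd.symm, pow_one] at h6
  exact congrArg Subtype.val h6

/-- **The conclusion, when the normal closure of the torus induces no permutation of the frames.** -/
theorem final (hX : ∀ g : T.C, (g : G) ∈ T.X → T.permC g = 1) :
    ∃ N : Subgroup G, N.Normal ∧ Nonempty (N ≃* Cfsg.Omega (ZMod 2) (Cfsg.quadFormPlus 4 (ZMod 2))) ∧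
      Subgroup.centralizer (N : Set G) = ⊥ ∧ (N.index = 3 ∨ N.index = 6) :=
  ⟨T.X, normalClosure_normal, T.X_equiv hX, T.cent_X, T.index_X hX⟩

end Ctx

end Cfsg.Agent.O8Three.Finish
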