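import Cfsg.Agent.Lib.O8Three.Finish.Frames
import Cfsg.Agent.Lib.O8Three.Pairs

/-!
S3372: the Sylow subgroup of the centraliser of the cycle and the conjugates of `z` in it.
-/

set_option autoImplicit false
set_option linter.style.haveILetI false
set_option linter.unusedSectionVars false
set_option maxRecDepth 20000
set_option synthInstance.maxSize 5000

namespace Cfsg.Agent.O8Three.Finish

open Subgroup
open scoped commutatorElement

theorem qu_fix : app MU b3 ≠ b3 ∧ ∀ v : V4, v.2.2.2 = 0 → app MU v = v → qf v = 0 →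
    v.2.1 = 0 ∧ v.2.2.1 = 0 := by decide +kernel

theorem qf_line : ∀ p : V4, p.2.1 = 0 → p.2.2.1 = 0 → p.2.2.2 = 0 → qf p = 0 := by decide +kernel

variable {G : Type*} [Group G] [Finite G] (S : Setting G)

theorem qu_not_mem_A : S.qu ∉ S.K.A := fun h => by
  have h2 := S.K.acts_unique S.acts_u (S.K.acts_of_mem h)
  exact absurd (congrArg (fun M => app M b3) h2) (by simpa [app_oneM] using qu_fix.1)

theorem qu_not_Z : S.qu ∉ zpowers S.F.z := fun h => qu_not_mem_A S (by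
  rw [← S.zpowers_p1] at h
  exact zpowers_le.2 S.K.m1 h)

/-- The part of the core centralising the cycle is a Sylow subgroup of its centraliser. -/
theorem sylow_qu {P : Subgroup G} (hp : IsPGroup 3 P) (hPC : P ≤ centralizer ({S.qu} : Set G))
    (hDP : S.F.Q ⊓ centralizer ({S.qu} : Set G) ≤ P) : P = S.F.Q ⊓ centralizer ({S.qu} : Set G) := by
  classical
  haveI : Fact (Nat.Prime 3) := ⟨Nat.prime_three⟩
  have huQ : S.qu ∈ S.F.Q := S.qu_mem.1
  have huz := qu_not_Z S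
  set F := S.F
  set u := S.qu
  set D := F.Q ⊓ centralizer ({u} : Set G) with hD
  have hD81 : Nat.card D = 81 := F.toPair.toConf.card_inf_centralizer huQ huz
  obtain ⟨a', ha', b', hb', hab⟩ : ∃ a ∈ D, ∃ b ∈ D, ⁅a, b⁆ ≠ 1 := by
    by_contra hn
    push Not at hn
    have := F.toPair.toConf.abel_le (H := D) inf_le_left
      fun a ha b hb => commutatorElement_eq_one_iff_commute.1 (hn a ha b hb)
    omega
  by_contra hne
  haveI : Group.IsNilpotent ↥P := hp.isNilpotent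
  have hlt : D.subgroupOf P < ⊤ := lt_top_iff_ne_top.2 fun e =>
    hne (le_antisymm (subgroupOf_eq_top.1 e) hDP)
  obtain ⟨⟨g, hgP⟩, hg, hgD⟩ := SetLike.exists_of_lt (Group.normalizerCondition_of_isNilpotent _ hlt)
  have hgconj : ∀ x ∈ D, g * x * g⁻¹ ∈ D := fun x hx =>
    (mem_normalizer_iff.1 hg ⟨x, hDP hx⟩).1 hx
  have hgen : zpowers ⁅a', b'⁆ = zpowers F.z := eq_of_le_of_card_ge
    (zpowers_le.2 (F.comm_mem _ ha'.1 _ hb'.1)) (by
      rw [F.toPair.toConf.card_Z, Nat.card_zpowers, orderOf_eq_prime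
        (F.exp_Q _ (F.toPair.toConf.Z_le_Q (F.comm_mem _ ha'.1 _ hb'.1))) hab])
  have hgz : g * F.z * g⁻¹ ∈ zpowers F.z := by
    obtain ⟨k, hk⟩ := mem_zpowers_iff.1 (hgen.symm ▸ mem_zpowers F.z : F.z ∈ zpowers ⁅a', b'⁆)
    rw [← hk, ← conj_zpow, show g * ⁅a', b'⁆ * g⁻¹ = ⁅g * a' * g⁻¹, g * b' * g⁻¹⁆ by
      simp only [commutatorElement_def]; group, hk]
    exact zpow_mem (F.comm_mem _ (hgconj a' ha').1 _ (hgconj b' hb').1) k
  obtain ⟨j, hj⟩ := hp ⟨g, hgP⟩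
  have hj' : g ^ 3 ^ j = 1 := congrArg Subtype.val hj
  have hgC : g ∈ F.toPair.toConf.Cz := by
    obtain ⟨i, hi⟩ := mem_zpowers_iff.1 hgz
    have hz3 : F.z ^ (3 : ℕ) = 1 := F.toPair.toConf.z3
    have hsq : (g * g) * F.z * (g * g)⁻¹ = F.z ^ (i * i) := by
      rw [show g * g * F.z * (g * g)⁻¹ = g * (g * F.z * g⁻¹) * g⁻¹ by group, ← hi, ← conj_zpow, ← hi, zpow_mul]
    have hred : F.z ^ (i * i) = F.z ∨ F.z ^ (i * i) = 1 := by
      have h3 : ∀ k : ℤ, F.z ^ k = F.z ^ (k % 3) := fun k => by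
        conv_lhs => rw [← Int.emod_add_mul_ediv k 3, zpow_add, zpow_mul,
          show (3 : ℤ) = ((3 : ℕ) : ℤ) from rfl, zpow_natCast, hz3, one_zpow, mul_one]
        rfl
      have key : ∀ r : ℤ, r = 0 ∨ r = 1 ∨ r = 2 → r * r % 3 = 0 ∨ r * r % 3 = 1 := by
        rintro r (rfl | rfl | rfl) <;> decide
      rw [h3, Int.mul_emod]
      rcases key (i % 3) (by omega) with e | e <;> rw [e]
      · exact Or.inr (zpow_zero _)
      · exact Or.inl (zpow_one _)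
    have hgg : (g * g) * F.z * (g * g)⁻¹ = F.z := by
      rcases hred with e | e
      · rw [hsq, e]
      · rw [e] at hsq
        exact absurd (mul_eq_left.1 (mul_inv_eq_one.1 hsq)) F.z_ne
    have hm : g * g ∈ F.toPair.toConf.Cz := F.toPair.toConf.mem_Cz.2 (mul_inv_eq_iff_eq_mul.1 hgg)
    obtain ⟨k, hk⟩ : ∃ k, 2 * k = 3 ^ j + 1 := ⟨(3 ^ j + 1) / 2, by
      have : 3 ^ j % 2 = 1 := by rw [Nat.pow_mod]; simp
      omega⟩
    have := pow_mem hm k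
    rwa [← pow_two, ← pow_mul, hk, pow_succ, hj', one_mul] at this
  have hgu : Commute g u := mem_centralizer_singleton_iff.1 (hPC hgP)
  have hgQ : g ∉ F.Q := fun hq => hgD ⟨hq, mem_centralizer_singleton_iff.2 hgu⟩
  set Cz := F.toPair.toConf.Cz
  have hgp : IsPGroup 3 (zpowers g) := hp.to_le (zpowers_le.2 hgP)
  obtain ⟨P3, hP3⟩ := (hgp.comap_of_injective Cz.subtype Cz.subtype_injective).exists_le_sylow
  obtain ⟨P4, hP4⟩ := (F.isPGroup_S.comap_of_injective Cz.subtype Cz.subtype_injective).exists_le_sylow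
  obtain ⟨c, hc⟩ := MulAction.exists_smul_eq Cz P4 P3
  have hP4eq : (P4 : Subgroup Cz).map Cz.subtype = F.S := by
    have hle : F.S ≤ (P4 : Subgroup Cz).map Cz.subtype := fun x hx => ⟨⟨x, F.S_le hx⟩, hP4 hx, rfl⟩
    exact (eq_of_le_of_card_ge hle (by rw [S.card_FS]; exact S.three _ (P4.isPGroup'.map _))).symm
  have hg' : (c : G)⁻¹ * g * c ∈ F.S := by
    have hm : (⟨g, hgC⟩ : Cz) ∈ ((c • P4 : Sylow 3 Cz) : Subgroup Cz) := hc.symm ▸ hP3 (mem_zpowers g)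
    rw [Sylow.coe_subgroup_smul, Subgroup.mem_pointwise_smul_iff_inv_smul_mem] at hm
    rw [← hP4eq]
    exact ⟨_, hm, by simp⟩
  obtain ⟨r, hr, hn⟩ := S.decomp c.2
  have hnS : ∀ x ∈ F.S, (r⁻¹ * c) * x * (r⁻¹ * c)⁻¹ ∈ F.S := by
    intro x hx
    have hnC : r⁻¹ * (c : G) ∈ Cz := mul_mem (inv_mem (S.R_le hr)) c.2
    have hsA : F.s ∈ S.K.A := S.hA.symm ▸ F.s_mem_A
    obtain ⟨k, q, hq, rfl⟩ := F.toPair.toConf.exists_zpow F.S_le F.isPGroup_S (mem_sup_right (mem_zpowers _)) hx F.s_not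
    rw [show r⁻¹ * (c : G) * (q * F.s ^ k) * (r⁻¹ * (c : G))⁻¹ = r⁻¹ * (c : G) * q * (r⁻¹ * (c : G))⁻¹ *
      (r⁻¹ * (c : G) * F.s ^ k * (r⁻¹ * (c : G))⁻¹) by group]
    exact mul_mem (mem_sup_left (F.normal _ hnC q hq))
      (F.A_le_S (S.hA ▸ (mem_normalizer_iff.1 hn _).1 (zpow_mem hsA k)))
  have hg'' : r⁻¹ * g * r ∈ F.S := by
    have := hnS _ hg'
    rwa [show r⁻¹ * (c : G) * ((c : G)⁻¹ * g * c) * (r⁻¹ * (c : G))⁻¹ = r⁻¹ * g * r by group] at this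
  have hg''u : Commute (r⁻¹ * g * r) u :=
    ((S.R_comm_U hr S.qu_mem).inv_left.mul_left hgu).mul_left (S.R_comm_U hr S.qu_mem)
  have hg''Q : r⁻¹ * g * r ∉ F.Q := fun hq => hgQ (by
    have := F.normal _ (S.R_le hr) _ hq
    rwa [show r * (r⁻¹ * g * r) * r⁻¹ = g by group] at this)
  obtain ⟨k, q, hq, hsq⟩ := F.toPair.toConf.exists_zpow F.S_le F.isPGroup_S hg''
    (mem_sup_right (mem_zpowers F.s)) hg''Q
  refine qu_not_mem_A S (S.hA.symm ▸ F.B_le_A (F.mem_B_of huQ ?_))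
  rw [hsq, show ⁅q * (r⁻¹ * g * r) ^ k, u⁆ = q * ⁅(r⁻¹ * g * r) ^ k, u⁆ * q⁻¹ * ⁅q, u⁆ by
    simp only [commutatorElement_def]; group, commutatorElement_eq_one_iff_commute.2 (hg''u.zpow_left k),
    mul_one, mul_inv_cancel, one_mul]
  exact F.comm_mem _ hq _ huQ

/-- The derived group of the Sylow subgroup lies in the torus. -/
theorem comm_S_mem_A {a b : G} (ha : a ∈ S.F.S) (hb : b ∈ S.F.S) : ⁅a, b⁆ ∈ S.K.A := by
  haveI : Fact (Nat.Prime 3) := ⟨Nat.prime_three⟩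
  have hAS : S.K.A ≤ S.F.S := S.hA.le.trans S.F.A_le_S
  have hn : (S.K.A.subgroupOf S.F.S).Normal := normal_subgroupOf_of_le_normalizer (sup_le (Q_le_N S)
    (zpowers_le.2 (S.A_le_N (S.hA.symm ▸ S.F.s_mem_A))))
  have hcard : Nat.card (S.F.S ⧸ S.K.A.subgroupOf S.F.S) = 3 ^ 2 := by
    have h := (S.K.A.subgroupOf S.F.S).card_eq_card_quotient_mul_card_subgroup
    rw [S.card_FS, Nat.card_congr (subgroupOfEquivOfLe hAS).toEquiv, S.K.card] at h
    omega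
  have hab := IsPGroup.commutative_of_card_eq_prime_sq hcard (QuotientGroup.mk' _ ⟨a, ha⟩)
    (QuotientGroup.mk' _ ⟨b, hb⟩)
  have h : QuotientGroup.mk' (S.K.A.subgroupOf S.F.S) ⁅(⟨a, ha⟩ : S.F.S), ⟨b, hb⟩⁆ = 1 := by
    rw [map_commutatorElement]
    exact commutatorElement_eq_one_iff_mul_comm.2 hab
  rw [QuotientGroup.mk'_apply, QuotientGroup.eq_one_iff, mem_subgroupOf] at h
  exact h

/-- A conjugate of `z` in the core commuting with the cycle lies in the centre. -/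
theorem mem_Z_of {z2 : G} (hQ : z2 ∈ S.F.Q) (hu : Commute z2 S.qu) {k : G} (hk : k * S.F.z * k⁻¹ = z2) :
    z2 ∈ zpowers S.F.z := by
  classical
  haveI : Fact (Nat.Prime 3) := ⟨Nat.prime_three⟩
  by_contra hzn
  set F := S.F
  set Cz := F.toPair.toConf.Cz
  obtain ⟨D, hD⟩ : ∃ D, D = F.Q ⊓ centralizer ({z2} : Set G) := ⟨_, rfl⟩
  have hD81 : Nat.card D = 81 := hD ▸ F.toPair.toConf.card_inf_centralizer hQ hzn
  obtain ⟨a, ha, b, hb, hab⟩ : ∃ a ∈ D, ∃ b ∈ D, ⁅a, b⁆ ≠ 1 := by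
    by_contra hn
    push Not at hn
    have := F.toPair.toConf.abel_le (H := D) (hD ▸ inf_le_left)
      fun a ha b hb => commutatorElement_eq_one_iff_commute.1 (hn a ha b hb)
    omega
  have hDQ : ∀ x ∈ D, x ∈ F.Q := fun x hx => (hD ▸ hx : x ∈ F.Q ⊓ centralizer ({z2} : Set G)).1
  have hgen : zpowers ⁅a, b⁆ = zpowers F.z := eq_of_le_of_card_ge
    (zpowers_le.2 (F.comm_mem _ (hDQ a ha) _ (hDQ b hb))) (by
      rw [F.toPair.toConf.card_Z, Nat.card_zpowers, orderOf_eq_prime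
        (F.exp_Q _ (F.toPair.toConf.Z_le_Q (F.comm_mem _ (hDQ a ha) _ (hDQ b hb)))) hab])
  have hDC : D.map (MulAut.conj k⁻¹).toMonoidHom ≤ Cz := by
    rintro _ ⟨x, hx, rfl⟩
    have hx2 : x * z2 = z2 * x := mem_centralizer_singleton_iff.1 (hD ▸ hx : x ∈ F.Q ⊓ centralizer ({z2} : Set G)).2
    refine F.toPair.toConf.mem_Cz.2 ?_
    show MulAut.conj k⁻¹ x * F.z = F.z * MulAut.conj k⁻¹ x
    rw [show F.z = MulAut.conj k⁻¹ z2 by rw [← hk, MulAut.conj_apply]; group, ← map_mul, ← map_mul, hx2]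
  have hDp : IsPGroup 3 D := F.toPair.toConf.isPGroup_Q.to_le hDQ
  obtain ⟨P3, hP3⟩ := ((hDp.map (MulAut.conj k⁻¹).toMonoidHom).comap_of_injective Cz.subtype
    Cz.subtype_injective).exists_le_sylow
  obtain ⟨P4, hP4⟩ := (F.isPGroup_S.comap_of_injective Cz.subtype Cz.subtype_injective).exists_le_sylow
  obtain ⟨c, hc⟩ := MulAction.exists_smul_eq Cz P4 P3
  have hP4eq : (P4 : Subgroup Cz).map Cz.subtype = F.S := by
    have hle : F.S ≤ (P4 : Subgroup Cz).map Cz.subtype := fun x hx => ⟨⟨x, F.S_le hx⟩, hP4 hx, rfl⟩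
    exact (eq_of_le_of_card_ge hle (by rw [S.card_FS]; exact S.three _ (P4.isPGroup'.map _))).symm
  obtain ⟨k', hk'⟩ : ∃ k', k' = k * (c : G) := ⟨_, rfl⟩
  have hmove : ∀ x ∈ D, k'⁻¹ * x * k' ∈ F.S := by
    intro x hx
    have hxC : k⁻¹ * x * k ∈ Cz := hDC ⟨x, hx, by simp⟩
    have hm : (⟨_, hxC⟩ : Cz) ∈ ((c • P4 : Sylow 3 Cz) : Subgroup Cz) := hc.symm ▸ hP3 ⟨x, hx, by simp⟩
    rw [Sylow.coe_subgroup_smul, Subgroup.mem_pointwise_smul_iff_inv_smul_mem] at hm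
    rw [← hP4eq]
    exact ⟨_, hm, by simp [hk', mul_assoc]⟩
  have hk2 : k' * F.z * k'⁻¹ = z2 := by
    rw [hk', show k * (c : G) * F.z * (k * (c : G))⁻¹ = k * ((c : G) * F.z * (c : G)⁻¹) * k⁻¹ by group,
      F.toPair.toConf.fix_Z c.2 (mem_zpowers _), hk]
  have hzA : k'⁻¹ * F.z * k' ∈ S.K.A := by
    obtain ⟨j, hj⟩ := mem_zpowers_iff.1 (hgen.symm ▸ mem_zpowers F.z : F.z ∈ zpowers ⁅a, b⁆)
    rw [← hj, show k'⁻¹ * ⁅a, b⁆ ^ j * k' = MulAut.conj k'⁻¹ (⁅a, b⁆ ^ j) by simp, map_zpow]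
    refine zpow_mem ?_ _
    rw [map_commutatorElement]
    exact comm_S_mem_A S (by simpa using hmove a ha) (by simpa using hmove b hb)
  have hzA0 : F.z ∈ S.K.A := by
    rw [← zpowers_le, ← S.zpowers_p1]
    exact zpowers_le.2 S.K.m1
  obtain ⟨n, hn, hne⟩ := S.fusion (a := F.z) (g := k'⁻¹) hzA0 (by simpa using hzA)
  rw [inv_inv] at hne
  have hc3 : k' * n ∈ Cz := F.toPair.toConf.mem_Cz.2 (mul_inv_eq_iff_eq_mul.1 (by
    calc k' * n * F.z * (k' * n)⁻¹ = k' * (n * F.z * n⁻¹) * k'⁻¹ := by group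
      _ = F.z := by rw [hne]; group))
  obtain ⟨r, hr, hn3⟩ := S.decomp hc3
  obtain ⟨x, hx⟩ : ∃ x, x = r⁻¹ * z2 * r := ⟨_, rfl⟩
  have hxA : x ∈ S.K.A := by
    have e : x = (r⁻¹ * (k' * n)) * (n⁻¹ * F.z * n) * (r⁻¹ * (k' * n))⁻¹ := by rw [hx, ← hk2]; group
    rw [e]
    refine (mem_normalizer_iff.1 hn3 _).1 ?_
    have := (mem_normalizer_iff.1 (inv_mem hn) F.z).1 hzA0
    rwa [inv_inv] at this
  obtain ⟨v, hv⟩ := S.K.φ_surj hxA
  have hxQ : x ∈ F.Q := by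
    have := F.normal _ (inv_mem (S.R_le hr)) _ hQ
    rwa [inv_inv, ← hx] at this
  have hxu : Commute x S.qu := by
    rw [hx]
    exact ((S.R_comm_U hr S.qu_mem).inv_left.mul_left hu).mul_left (S.R_comm_U hr S.qu_mem)
  have hfix : app MU v = v := S.K.φ_inj (by
    rw [← S.acts_u, hv, mul_inv_eq_iff_eq_mul]
    exact hxu.eq.symm)
  have hsing : qf v = 0 := by
    obtain ⟨i, hi⟩ := mem_zpowers_iff.1 (S.zpowers_p1.symm ▸ mem_zpowers F.z : F.z ∈ zpowers S.K.p1)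
    have hx1 : x ≠ 1 := fun e => hzn (by
      rw [hx] at e
      rw [show z2 = r * (r⁻¹ * z2 * r) * r⁻¹ by group, e]
      simp)
    obtain ⟨p, hp, hpp⟩ : ∃ p, S.K.φ p = F.z ∧ qf p = 0 := by
      obtain ⟨p, hp⟩ := S.K.φ_surj hzA0
      refine ⟨p, hp, ?_⟩
      have hzw : F.z ∈ F.toPair.toConf.W := F.toPair.toConf.Z_le_W (mem_zpowers _)
      have hzu : F.z ∈ F.toPair.toConf.U := F.toPair.toConf.Z_le_U (mem_zpowers _)
      rw [← hp] at hzw hzu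
      exact qf_line p (S.coord_U hzu).1 (S.coord_W hzw).1 (S.coord_W hzw).2
    have hkr : (r⁻¹ * k') * S.K.φ p * (r⁻¹ * k')⁻¹ = S.K.φ v := by
      rw [hp, hv, hx, ← hk2]; group
    rw [S.qf_fusion hkr, hpp]
  obtain ⟨h1, h2⟩ := qu_fix.2 v (S.coord_Q (hv.symm ▸ hxQ)) hfix hsing
  have hv4 := S.coord_Q (hv.symm ▸ hxQ)
  have hxz : x ∈ zpowers F.z := by
    rw [← S.zpowers_p1, ← hv, Coord.φ, h1, h2, hv4]
    simp only [Cfsg.Agent.HeisSLThree.pw_zero, mul_one]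
    exact pow_mem (mem_zpowers _) _
  apply hzn
  have : z2 = r * x * r⁻¹ := by rw [hx]; group
  rw [this, F.toPair.toConf.fix_Z (S.R_le hr) hxz]
  exact hxz

end Cfsg.Agent.O8Three.Finish
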