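import Cfsg.Agent.Lib.O8Three.Finish.Odd
import Cfsg.Agent.Lib.O8Three.Finish.Local3
import Mathlib.GroupTheory.Transfer

/-!
S3372: the normal closure of the torus induces no cycle of the frames: otherwise the transfer to the rotations of
the frames is a non-trivial homomorphism of order three, while the normal closure has none.
-/

set_option autoImplicit false
set_option linter.style.haveILetI false
set_option linter.unusedSectionVars false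
set_option maxRecDepth 20000
set_option synthInstance.maxSize 5000

namespace Cfsg.Agent.O8Three.Finish

open Subgroup

theorem span_norm_one : ∀ v : V4, ∃ a b c d : ZMod 3,
    v = smulV a (evv 0) + smulV b (evv 1) + smulV c (evv 2) + smulV d b2 := by decide +kernel

theorem smul_cases : ∀ a : ZMod 3, ∀ u : V4, smulV a u = 0 ∨ smulV a u = u ∨ smulV a u = u + u := by
  decide +kernel

theorem core_adjust_all : (S36.all fun M => decide (∃ k : Fin 3,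
    mulM MT (mulM (powM MW k.val) M) = mulM (mulM (powM MW k.val) M) MT)) = true := by decide +kernel

theorem core_adjust {M : M4} (hM : M ∈ S36) : ∃ k : Fin 3,
    mulM MT (mulM (powM MW k.val) M) = mulM (mulM (powM MW k.val) M) MT :=
  of_decide_eq_true (List.all_eq_true.1 core_adjust_all M hM)

theorem two_facts : Multiplicative.ofAdd (2 : ZMod 3) ^ 3 = 1 ∧ Multiplicative.ofAdd (2 : ZMod 3) ≠ 1 := by
  decide

theorem cycle_powers : ∀ σ c : Equiv.Perm (Fin 3), σ * σ * σ = 1 → Equiv.Perm.sign c = 1 → c ≠ 1 →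
    σ = 1 ∨ σ = c ∨ σ = c * c := by decide +kernel

/-- The transfer of an element of order three all of whose conjugates in the subgroup have the same value. -/
theorem transfer_three {Y : Type*} [Group Y] [Finite Y] {H : Subgroup Y} {B : Type*} [CommGroup B] (φ : H →* B)
    {x : Y} (hx : x ^ 3 = 1) {a : B} (ha : a ^ 3 = 1)
    (h : ∀ g : Y, ∀ hh : g⁻¹ * x * g ∈ H, φ ⟨_, hh⟩ = a) : φ.transfer x = a ^ H.index := by
  classical
  letI := H.fintypeQuotientOfFiniteIndex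
  rw [MonoidHom.transfer_eq_prod_quotient_orbitRel_zpowers_quot, H.index_eq_sum_minimalPeriod x,
    ← Finset.prod_pow_eq_pow_sum]
  refine Finset.prod_congr rfl fun q _ => ?_
  set j := Function.minimalPeriod (x • ·) q.out with hj
  have hmem := QuotientGroup.out_conj_pow_minimalPeriod_mem H x q.out
  rw [← hj] at hmem
  have hxj : ∀ {Z : Type _} [Group Z] (y : Z), y ^ 3 = 1 → y ^ j = y ^ (j % 3) := fun y hy => by
    conv_lhs => rw [← Nat.mod_add_div j 3, pow_add, pow_mul, hy, one_pow, mul_one]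
  by_cases h0 : j % 3 = 0
  · have ha' : a ^ j = 1 := by
      conv_lhs => rw [← Nat.mod_add_div j 3, h0, zero_add, pow_mul, ha, one_pow]
    rw [ha', ← map_one φ]
    refine congrArg φ (Subtype.ext ?_)
    show q.out.out⁻¹ * x ^ j * q.out.out = 1
    rw [hxj x hx, h0, pow_zero, mul_one, inv_mul_cancel]
  · have hg : q.out.out⁻¹ * x * q.out.out ∈ H := by
      have h2 := pow_mem hmem (j % 3)
      rw [show q.out.out⁻¹ * x ^ j * q.out.out = MulAut.conj q.out.out⁻¹ (x ^ j) by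
          rw [MulAut.conj_apply, inv_inv], ← map_pow, ← pow_mul, MulAut.conj_apply, inv_inv] at h2
      rwa [show x ^ (j * (j % 3)) = x by
        conv_rhs => rw [← pow_one x]
        rcases (show j % 3 = 1 ∨ j % 3 = 2 by omega) with e | e
        · rw [pow_mul, hxj x hx, e, pow_one]
        · rw [pow_mul, hxj x hx, e, ← pow_mul, show 2 * 2 = 3 + 1 from rfl, pow_add, hx, one_mul]] at h2
    rw [← h _ hg, ← map_pow]
    refine congrArg φ (Subtype.ext ?_)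
    show q.out.out⁻¹ * x ^ j * q.out.out = (q.out.out⁻¹ * x * q.out.out) ^ j
    rw [show q.out.out⁻¹ * x * q.out.out = MulAut.conj q.out.out⁻¹ x by rw [MulAut.conj_apply, inv_inv],
      ← map_pow, MulAut.conj_apply, inv_inv]

namespace Ctx

variable {G : Type*} [Group G] [Finite G] (T : Ctx G)

/-- **The normal closure of the torus has no homomorphism onto a group of order three.** -/
theorem hom_trivial (W : T.X →* Multiplicative (ZMod 3)) : W = 1 := by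
  haveI : T.X.Normal := normalClosure_normal
  have key3 : ∀ x : Multiplicative (ZMod 3), x = x⁻¹ → x = 1 := by decide
  -- the image of the element inverted by the involution
  have hb2 : ∀ V : T.X →* Multiplicative (ZMod 3), V ⟨_, T.A_le_X (T.S.K.φ_mem b2)⟩ = 1 := by
    intro V
    refine key3 _ ?_
    have e : (⟨T.S.F.t, T.t_mem_X⟩ : T.X) * ⟨_, T.A_le_X (T.S.K.φ_mem b2)⟩ * (⟨T.S.F.t, T.t_mem_X⟩ : T.X)⁻¹ =
        (⟨_, T.A_le_X (T.S.K.φ_mem b2)⟩ : T.X)⁻¹ := Subtype.ext (by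
      show T.S.F.t * T.S.K.φ b2 * T.S.F.t⁻¹ = (T.S.K.φ b2)⁻¹
      rw [T.S.acts_t, show app MT b2 = -b2 by decide, T.S.φ_neg])
    have e2 := congrArg V e
    rw [map_mul, map_mul, map_inv, map_inv, mul_right_comm, mul_inv_cancel, one_mul] at e2
    exact e2
  have hnorm : ∀ (V : T.X →* Multiplicative (ZMod 3)) (v : V4), qf v = 1 →
      V ⟨_, T.A_le_X (T.S.K.φ_mem v)⟩ = 1 := by
    intro V v hv
    obtain ⟨l1, -, h1⟩ := toE_all b2 norms_b.1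
    obtain ⟨l2, -, h2⟩ := toE_all v hv
    obtain ⟨n1, hn1⟩ := T.S.lift_word l1
    obtain ⟨n2, hn2⟩ := T.S.lift_word l2
    have h := hb2 (V.comp (MulAut.conjNormal (n2 * n1⁻¹) : MulAut T.X).toMonoidHom)
    rw [← h]
    refine congrArg V (Subtype.ext ?_)
    show T.S.K.φ v = ((MulAut.conjNormal (n2 * n1⁻¹) : MulAut T.X) ⟨T.S.K.φ b2, _⟩ : G)
    rw [MulAut.conjNormal_apply]
    show T.S.K.φ v = n2 * n1⁻¹ * T.S.K.φ b2 * (n2 * n1⁻¹)⁻¹
    rw [← h1, ← h2, ← hn1, ← hn2]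
    group
  have hA : ∀ (V : T.X →* Multiplicative (ZMod 3)) (a : G) (ha : a ∈ T.S.K.A), V ⟨a, T.A_le_X ha⟩ = 1 := by
    intro V a ha
    obtain ⟨v, rfl⟩ := T.S.K.φ_surj ha
    have hm : ∀ v, T.S.K.φ v ∈ T.X := fun v => T.A_le_X (T.S.K.φ_mem v)
    have hadd : ∀ u w, V ⟨_, hm u⟩ = 1 → V ⟨_, hm w⟩ = 1 → V ⟨_, hm (u + w)⟩ = 1 := fun u w hu hw => by
      rw [show (⟨_, hm (u + w)⟩ : T.X) = ⟨_, hm u⟩ * ⟨_, hm w⟩ from Subtype.ext (T.S.K.φ_add u w), map_mul, hu, hw,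
        one_mul]
    have hsm : ∀ (c : ZMod 3) u, V ⟨_, hm u⟩ = 1 → V ⟨_, hm (smulV c u)⟩ = 1 := fun c u hu => by
      rcases smul_cases c u with e | e | e
      · rw [show (⟨_, hm (smulV c u)⟩ : T.X) = 1 from Subtype.ext (by rw [e]; exact T.S.K.φ_zero), map_one]
      · rw [show (⟨_, hm (smulV c u)⟩ : T.X) = ⟨_, hm u⟩ from Subtype.ext (by rw [e]), hu]
      · rw [show (⟨_, hm (smulV c u)⟩ : T.X) = ⟨_, hm (u + u)⟩ from Subtype.ext (by rw [e]), hadd u u hu hu]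
    obtain ⟨a, b, c, d, rfl⟩ := span_norm_one v
    exact hadd _ _ (hadd _ _ (hadd _ _ (hsm _ _ (hnorm V _ (evv_norm 0).1)) (hsm _ _ (hnorm V _ (evv_norm 1).1)))
      (hsm _ _ (hnorm V _ (evv_norm 2).1))) (hsm _ _ (hb2 V))
  have hle : T.X ≤ W.ker.map T.X.subtype := (closure_le _).2 fun x hx => by
    obtain ⟨a, ha, hc⟩ := Group.mem_conjugatesOfSet_iff.1 hx
    obtain ⟨g, rfl⟩ := isConj_iff.1 hc
    exact ⟨(MulAut.conjNormal g : MulAut T.X) ⟨a, T.A_le_X ha⟩,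
      hA (W.comp (MulAut.conjNormal g : MulAut T.X).toMonoidHom) a ha, MulAut.conjNormal_apply _ _⟩
  ext x
  obtain ⟨y, hy, e⟩ := hle x.2
  rw [← (Subtype.ext e : y = x)]
  exact congrArg Multiplicative.toAdd (MonoidHom.mem_ker.1 hy)

theorem Q_le_X (hqu : T.S.qu ∈ T.X) : T.S.F.Q ≤ T.X := by
  intro q hq
  obtain ⟨w, hw, u, hu, rfl⟩ := T.S.F.toPair.toConf.split hq
  refine mul_mem ?_ ?_
  · have h1 : T.S.F.t * w * T.S.F.t⁻¹ * w ∈ T.X := by
      have h := hw.2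
      rw [← T.S.zpowers_p1] at h
      exact T.A_le_X (zpowers_le.2 T.S.K.m1 h)
    have h2 : T.S.F.t * (w * T.S.F.t⁻¹ * w⁻¹) ∈ T.X :=
      mul_mem T.t_mem_X (Normal.conj_mem normalClosure_normal _ (inv_mem T.t_mem_X) w)
    have h3 : w * w ∈ T.X := by
      have := mul_mem (inv_mem h2) h1
      rwa [show (T.S.F.t * (w * T.S.F.t⁻¹ * w⁻¹))⁻¹ * (T.S.F.t * w * T.S.F.t⁻¹ * w) = w * w by group] at this
    have h4 : w * w * (w * w) = w := by
      rw [show w * w * (w * w) = w ^ 3 * w by simp [pow_succ, mul_assoc],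
        T.S.F.exp_Q _ hw.1, one_mul]
    rw [← h4]
    exact mul_mem h3 h3
  · have huC : u ∈ T.C := mem_centralizer_singleton_iff.2 (T.S.mem_L.1 (T.S.U_le_L hu)).2.eq
    obtain ⟨hc1, hc2, -⟩ := T.qu_cycle
    have hu3 : T.permC ⟨u, huC⟩ * T.permC ⟨u, huC⟩ * T.permC ⟨u, huC⟩ = 1 := by
      rw [← map_mul, ← map_mul, ← map_one T.permC]
      refine congrArg _ (Subtype.ext ?_)
      show u * u * u = 1
      rw [← pow_two, ← pow_succ]
      exact T.S.F.exp_Q _ hu.1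
    have hq' : T.quC ∈ T.X.subgroupOf T.C := hqu
    obtain ⟨h, hh, he⟩ : ∃ h ∈ T.X.subgroupOf T.C, T.permC h = T.permC ⟨u, huC⟩ := by
      rcases cycle_powers _ _ hu3 hc1 hc2 with e | e | e
      · exact ⟨1, one_mem _, by rw [map_one, e]⟩
      · exact ⟨_, hq', e.symm⟩
      · exact ⟨_, mul_mem hq' hq', by rw [map_mul, e]⟩
    have hk : (h⁻¹ * ⟨u, huC⟩ : T.C) ∈ T.X.subgroupOf T.C :=
      mem_subgroupOf.2 (T.M0_le_X (g := h⁻¹ * ⟨u, huC⟩) (by rw [map_mul, map_inv, he, inv_mul_cancel]))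
    have := mul_mem hh hk
    rwa [mul_inv_cancel_left, mem_subgroupOf] at this

theorem S_le_X (hqu : T.S.qu ∈ T.X) : T.S.F.S ≤ T.X :=
  sup_le (T.Q_le_X hqu) (zpowers_le.2 (T.A_le_X (T.S.hA.symm ▸ T.S.F.s_mem_A)))

theorem perm_qw_pow {n : G} (hn : n ∈ T.S.N) (k : ℕ) :
    perm T.S ⟨T.S.qw ^ k * n, mul_mem (pow_mem (Q_le_N T.S T.S.qw_mem.1) k) hn⟩ = perm T.S ⟨n, hn⟩ := by
  have e : (⟨T.S.qw ^ k * n, mul_mem (pow_mem (Q_le_N T.S T.S.qw_mem.1) k) hn⟩ : T.S.N) =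
      (⟨T.S.qw, Q_le_N T.S T.S.qw_mem.1⟩ : T.S.N) ^ k * ⟨n, hn⟩ := Subtype.ext rfl
  rw [e, map_mul, map_pow, perm_W T.S T.S.qw_mem, one_pow, one_mul]

/-- **The normal closure induces no cycle of the frames.** -/
theorem false_of_even {g₁ : T.C} (hX₁ : (g₁ : G) ∈ T.X) (hg₁ : T.permC g₁ ≠ 1)
    (heven : ∀ h : T.C, (h : G) ∈ T.X → Equiv.Perm.sign (T.permC h) = 1) : False := by
  classical
  haveI : Fact (Nat.Prime 3) := ⟨Nat.prime_three⟩
  haveI : T.X.Normal := normalClosure_normal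
  have hqu := T.qu_mem_X hX₁ hg₁
  have hQX := T.Q_le_X hqu
  have hSX := T.S_le_X hqu
  -- the elements of the normaliser without exchange
  let sgnN : T.S.N →* ℤˣ := Equiv.Perm.sign.comp (perm T.S)
  obtain ⟨Hs, hHs⟩ : ∃ Hs, Hs = T.X ⊓ sgnN.ker.map T.S.N.subtype := ⟨_, rfl⟩
  have hmem : ∀ {n : G} (hn : n ∈ T.S.N), n ∈ T.X → Equiv.Perm.sign (perm T.S ⟨n, hn⟩) = 1 → n ∈ Hs :=
    fun hn h1 h2 => hHs ▸ ⟨h1, ⟨_, hn⟩, h2, rfl⟩
  have hHsN : Hs ≤ T.S.N := hHs ▸ inf_le_right.trans (map_subtype_le _)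
  have hHsX : Hs ≤ T.X := hHs ▸ inf_le_left
  have hsign : ∀ n : Hs, Equiv.Perm.sign (perm T.S ⟨(n : G), hHsN n.2⟩) = 1 := by
    rintro ⟨n, hn⟩
    obtain ⟨-, ⟨m, hm⟩, hker, e⟩ := (hHs ▸ hn : n ∈ T.X ⊓ sgnN.ker.map T.S.N.subtype)
    obtain rfl : m = n := e
    exact hker
  let φ : Hs →* Multiplicative (ZMod 3) :=
    MonoidHom.mk' (fun n => Multiplicative.ofAdd (rot (perm T.S ⟨(n : G), hHsN n.2⟩))) fun m n => by
      rw [← ofAdd_add, ← rot_mul _ _ (hsign m) (hsign n), ← map_mul]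
      rfl
  have hinv : ∀ (y : Hs) {m : G}, m ∈ Hs → ∀ h : m * (y : G) * m⁻¹ ∈ Hs, φ ⟨_, h⟩ = φ y := by
    intro y m hm h
    rw [show (⟨_, h⟩ : Hs) = ⟨m, hm⟩ * y * (⟨m, hm⟩ : Hs)⁻¹ from rfl, map_mul, map_mul, map_inv,
      mul_comm (φ _) (φ y), mul_inv_cancel_right]
  -- the Sylow subgroup
  have hSN : T.S.F.S ≤ T.S.N := sup_le (Q_le_N T.S) (zpowers_le.2 (T.S.A_le_N (T.S.hA.symm ▸ T.S.F.s_mem_A)))
  have hSH : T.S.F.S ≤ Hs := fun x hx => hmem (hSN hx) (hSX hx) (by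
    obtain ⟨j, hj⟩ := T.S.F.isPGroup_S ⟨x, hx⟩
    have hj' : (⟨x, hSN hx⟩ : T.S.N) ^ 3 ^ j = 1 := Subtype.ext (congrArg (fun a : T.S.F.S => (a : G)) hj)
    have h1 : sgnN ⟨x, hSN hx⟩ ^ 3 ^ j = 1 := by rw [← map_pow, hj', map_one]
    rcases Int.units_eq_one_or (sgnN ⟨x, hSN hx⟩) with e | e
    · exact e
    · rw [e, Odd.neg_one_pow (by exact Odd.pow (by decide))] at h1
      exact absurd h1 (by decide))
  have hquH : T.S.qu ∈ Hs := hSH (mem_sup_left T.S.qu_mem.1)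
  have hsylH : ∀ x ∈ Hs, x ^ 3 = 1 → ∃ m ∈ Hs, m * x * m⁻¹ ∈ T.S.F.S := by
    intro x hx hx3
    obtain ⟨P1, hP1⟩ := (T.S.F.isPGroup_S.comap_of_injective Hs.subtype Hs.subtype_injective).exists_le_sylow
    have hp : IsPGroup 3 (zpowers (⟨x, hx⟩ : Hs)) := by
      rintro ⟨y, hy⟩
      obtain ⟨k, rfl⟩ := mem_zpowers_iff.1 hy
      refine ⟨1, Subtype.ext ?_⟩
      show ((⟨x, hx⟩ : Hs) ^ k) ^ (3 ^ 1) = 1
      rw [pow_one, ← zpow_natCast, ← zpow_mul, mul_comm, zpow_mul, zpow_natCast,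
        show (⟨x, hx⟩ : Hs) ^ 3 = 1 from Subtype.ext hx3, one_zpow]
    obtain ⟨P2, hP2⟩ := hp.exists_le_sylow
    obtain ⟨m, hm⟩ := MulAction.exists_smul_eq Hs P2 P1
    have hP1eq : (P1 : Subgroup Hs).map Hs.subtype = T.S.F.S := by
      have hle : T.S.F.S ≤ (P1 : Subgroup Hs).map Hs.subtype := fun y hy => ⟨⟨y, hSH hy⟩, hP1 hy, rfl⟩
      exact (eq_of_le_of_card_ge hle (by rw [T.S.card_FS]; exact T.S.three _ (P1.isPGroup'.map _))).symm
    refine ⟨m, m.2, ?_⟩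
    rw [← hP1eq]
    refine ⟨m * ⟨x, hx⟩ * m⁻¹, ?_, by simp⟩
    rw [← hm, Sylow.coe_subgroup_smul]
    exact Subgroup.smul_mem_pointwise_smul _ (MulAut.conj m) _ (hP2 (mem_zpowers _))
  -- members of the centraliser of `z` make no exchange
  have hcz : ∀ n, n ∈ T.X → n ∈ T.S.F.toPair.toConf.Cz → ∀ hn : n ∈ T.S.N, n ∈ Hs := by
    intro n hnX hnC hn
    refine hmem hn hnX ?_
    obtain ⟨M, hM⟩ := T.S.acts_N hn
    obtain ⟨k, hk⟩ := core_adjust (T.S.cand hnC hM)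
    have hM' := (T.S.acts_pow T.S.acts_w k.val).mul hM
    obtain ⟨n', hn', hn't⟩ := T.S.lift_t hM' hk
    have hA : (T.S.qw ^ k.val * n)⁻¹ * n' ∈ T.S.K.A := T.S.cent_A fun a ha => by
      obtain ⟨v, rfl⟩ := T.S.K.φ_surj ha
      refine mul_inv_eq_iff_eq_mul.1 ?_
      rw [show (T.S.qw ^ k.val * n)⁻¹ * n' * T.S.K.φ v * ((T.S.qw ^ k.val * n)⁻¹ * n')⁻¹ =
        (T.S.qw ^ k.val * n)⁻¹ * (n' * T.S.K.φ v * n'⁻¹) * (T.S.qw ^ k.val * n) by group, hn', ← hM']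
      group
    have hqX : T.S.qw ^ k.val * n ∈ T.X := mul_mem (pow_mem (hQX T.S.qw_mem.1) _) hnX
    have hn'X : n' ∈ T.X := by
      rw [← mul_inv_cancel_left (T.S.qw ^ k.val * n) n']
      exact mul_mem hqX (T.A_le_X hA)
    have hev := heven ⟨n', mem_centralizer_singleton_iff.2 hn't.eq⟩ hn'X
    rw [T.permC_of_mem (n := ⟨n', _⟩) (T.S.mem_N_of_acts hn')] at hev
    have e : (⟨n', T.S.mem_N_of_acts hn'⟩ : T.S.N) =
        ⟨T.S.qw ^ k.val * n, mul_mem (pow_mem (Q_le_N T.S T.S.qw_mem.1) _) hn⟩ * ⟨_, T.S.A_le_N hA⟩ :=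
      Subtype.ext (mul_inv_cancel_left _ _).symm
    rw [e, map_mul, perm_A T.S hA, mul_one, T.perm_qw_pow hn] at hev
    exact hev
  -- an element inverting `z`
  obtain ⟨n0, hn0H, hn0z⟩ : ∃ n0 ∈ Hs, n0 * T.S.F.z * n0⁻¹ = T.S.F.z⁻¹ := by
    obtain ⟨f0, h0X, h0, h0'⟩ := T.exists_flip 0
    obtain ⟨f1, h1X, h1, h1'⟩ := T.exists_flip 1
    obtain ⟨f2, h2X, h2, h2'⟩ := T.exists_flip 2
    obtain ⟨n, hn⟩ : ∃ n : T.C, n = f0 * f1 * f2 := ⟨_, rfl⟩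
    have he : ∀ i, (n : G) * T.S.e i * (n : G)⁻¹ = (T.S.e i)⁻¹ := by
      intro i
      rw [hn, Subgroup.coe_mul, Subgroup.coe_mul,
        show (f0 : G) * f1 * f2 * T.S.e i * ((f0 : G) * f1 * f2)⁻¹ =
          f0 * (f1 * (f2 * T.S.e i * (f2 : G)⁻¹) * (f1 : G)⁻¹) * (f0 : G)⁻¹ by group]
      fin_cases i
      · show (f0 : G) * (f1 * (f2 * T.S.e 0 * (f2 : G)⁻¹) * (f1 : G)⁻¹) * (f0 : G)⁻¹ = (T.S.e 0)⁻¹
        rw [h2' 0 (by decide), h1' 0 (by decide), h0]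
      · show (f0 : G) * (f1 * (f2 * T.S.e 1 * (f2 : G)⁻¹) * (f1 : G)⁻¹) * (f0 : G)⁻¹ = (T.S.e 1)⁻¹
        rw [h2' 1 (by decide), h1, ← conj_inv, h0' 1 (by decide)]
      · show (f0 : G) * (f1 * (f2 * T.S.e 2 * (f2 : G)⁻¹) * (f1 : G)⁻¹) * (f0 : G)⁻¹ = (T.S.e 2)⁻¹
        rw [h2, ← conj_inv, h1' 2 (by decide), ← conj_inv, h0' 2 (by decide)]
    have hnX : (n : G) ∈ T.X := by
      rw [hn]; exact mul_mem (mul_mem h0X h1X) h2X
    have hnN : (n : G) ∈ T.S.N := T.S.norm_E (T.comm_t n) fun i => by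
      rw [he i]; exact inv_mem (subset_closure (Set.mem_range_self i))
    have hev := heven n hnX
    rw [T.permC_of_mem hnN] at hev
    refine ⟨n, hmem hnN hnX hev, ?_⟩
    have hp : (n : G) * T.S.K.p1 * (n : G)⁻¹ = T.S.K.p1⁻¹ := by
      have e1 : T.S.K.p1 = T.S.e 0 * T.S.e 1 * T.S.e 2 := by
        rw [← T.S.K.φ_b1, ← evv_sum, T.S.K.φ_add, T.S.K.φ_add]; rfl
      have hc := T.S.K.comm
      have m : ∀ i, T.S.e i ∈ T.S.K.A := fun i => T.S.K.φ_mem _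
      rw [e1, show (n : G) * (T.S.e 0 * T.S.e 1 * T.S.e 2) * (n : G)⁻¹ = ((n : G) * T.S.e 0 * (n : G)⁻¹) *
        ((n : G) * T.S.e 1 * (n : G)⁻¹) * ((n : G) * T.S.e 2 * (n : G)⁻¹) by group, he, he, he,
        _root_.mul_inv_rev, _root_.mul_inv_rev]
      rw [(hc _ (inv_mem (m 0)) _ (inv_mem (m 1))).eq, mul_assoc,
        (hc _ (inv_mem (m 0)) _ (inv_mem (m 2))).eq, ← mul_assoc, (hc _ (inv_mem (m 1)) _ (inv_mem (m 2))).eq,
        mul_assoc]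
    obtain ⟨k, hk⟩ := mem_zpowers_iff.1 (T.S.zpowers_p1.symm ▸ mem_zpowers T.S.F.z : T.S.F.z ∈ zpowers T.S.K.p1)
    rw [← hk, ← conj_zpow, hp, inv_zpow]
  -- the fusion of the cycle
  have hfus : ∀ g ∈ T.X, ∀ h : g * T.S.qu * g⁻¹ ∈ Hs, φ ⟨_, h⟩ = φ ⟨T.S.qu, hquH⟩ := by
    intro g₀ hg₀ h₀
    obtain ⟨m, hm, hmS⟩ := hsylH _ h₀ (by rw [conj_pow, T.S.F.exp_Q _ T.S.qu_mem.1]; simp)
    rw [← hinv _ hm (hSH hmS)]
    obtain ⟨g, hgdef⟩ : ∃ g, g = m * g₀ := ⟨_, rfl⟩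
    have hg : g ∈ T.X := hgdef ▸ mul_mem (hHsX hm) hg₀
    have hgS : g * T.S.qu * g⁻¹ ∈ T.S.F.S := by
      rw [hgdef, show m * g₀ * T.S.qu * (m * g₀)⁻¹ = m * (g₀ * T.S.qu * g₀⁻¹) * m⁻¹ by group]
      exact hmS
    suffices hs : φ ⟨_, hSH hgS⟩ = φ ⟨T.S.qu, hquH⟩ by
      rw [← hs]
      exact congrArg φ (Subtype.ext (by
        show m * (g₀ * T.S.qu * g₀⁻¹) * m⁻¹ = g * T.S.qu * g⁻¹
        subst hgdef
        group))
    -- the conjugate of `z` is moved into the Sylow subgroup of the centraliser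
    have hzg : Commute (g⁻¹ * T.S.F.z * g) T.S.qu := by
      have h1 : Commute (g * T.S.qu * g⁻¹) T.S.F.z := T.S.F.toPair.toConf.commute_z (T.S.F.S_le hgS)
      have h2 := h1.symm.map (MulAut.conj g⁻¹)
      simpa [mul_assoc] using h2
    have hzX : g⁻¹ * T.S.F.z * g ∈ T.X := mul_mem (mul_mem (inv_mem hg) (hSX (mem_sup_left T.S.F.z_mem))) hg
    obtain ⟨CX, hCX⟩ : ∃ CX, CX = T.X ⊓ centralizer ({T.S.qu} : Set G) := ⟨_, rfl⟩
    obtain ⟨D, hD⟩ : ∃ D, D = T.S.F.Q ⊓ centralizer ({T.S.qu} : Set G) := ⟨_, rfl⟩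
    have hDC : D ≤ CX := hD ▸ hCX ▸ inf_le_inf_right _ hQX
    have hDp : IsPGroup 3 D := T.S.F.toPair.toConf.isPGroup_Q.to_le (hD ▸ inf_le_left)
    obtain ⟨P1, hP1⟩ := (hDp.comap_of_injective CX.subtype CX.subtype_injective).exists_le_sylow
    have hP1eq : (P1 : Subgroup CX).map CX.subtype = D := by
      rw [hD]
      exact sylow_qu T.S (P1.isPGroup'.map _) ((map_subtype_le _).trans (hCX ▸ inf_le_right))
        (fun y hy => ⟨⟨y, hDC (hD ▸ hy)⟩, hP1 (show y ∈ D from hD ▸ hy), rfl⟩)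
    have hzCX : g⁻¹ * T.S.F.z * g ∈ CX := hCX ▸ ⟨hzX, mem_centralizer_singleton_iff.2 hzg.eq⟩
    have hz3 : (g⁻¹ * T.S.F.z * g) ^ 3 = 1 := by
      rw [show g⁻¹ * T.S.F.z * g = MulAut.conj g⁻¹ T.S.F.z by rw [MulAut.conj_apply, inv_inv], ← map_pow,
        T.S.F.toPair.toConf.z3, map_one]
    have hp : IsPGroup 3 (zpowers (⟨_, hzCX⟩ : CX)) := by
      rintro ⟨y, hy⟩
      obtain ⟨k, rfl⟩ := mem_zpowers_iff.1 hy
      refine ⟨1, Subtype.ext ?_⟩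
      show ((⟨_, hzCX⟩ : CX) ^ k) ^ (3 ^ 1) = 1
      rw [pow_one, ← zpow_natCast, ← zpow_mul, mul_comm, zpow_mul, zpow_natCast,
        show (⟨_, hzCX⟩ : CX) ^ 3 = 1 from Subtype.ext hz3, one_zpow]
    obtain ⟨P2, hP2⟩ := hp.exists_le_sylow
    obtain ⟨e, he⟩ := MulAction.exists_smul_eq CX P2 P1
    have heu : Commute (e : G) T.S.qu := mem_centralizer_singleton_iff.1 (hCX.le e.2).2
    have heX : (e : G) ∈ T.X := (hCX.le e.2).1
    obtain ⟨z2, hz2⟩ : ∃ z2, z2 = (e : G) * (g⁻¹ * T.S.F.z * g) * (e : G)⁻¹ := ⟨_, rfl⟩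
    have hz2D : z2 ∈ D := by
      rw [← hP1eq]
      refine ⟨e * ⟨_, hzCX⟩ * e⁻¹, ?_, by simp [hz2]⟩
      rw [← he, Sylow.coe_subgroup_smul]
      exact Subgroup.smul_mem_pointwise_smul _ (MulAut.conj e) _ (hP2 (mem_zpowers _))
    rw [hD] at hz2D
    have hz2Z : z2 ∈ zpowers T.S.F.z := mem_Z_of T.S hz2D.1 (mem_centralizer_singleton_iff.1 hz2D.2)
      (k := (e : G) * g⁻¹) (by rw [hz2]; group)
    obtain ⟨g1, hg1⟩ : ∃ g1, g1 = g * (e : G)⁻¹ := ⟨_, rfl⟩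
    have hg1X : g1 ∈ T.X := hg1 ▸ mul_mem hg (inv_mem heX)
    have hg1x : g1 * T.S.qu * g1⁻¹ = g * T.S.qu * g⁻¹ := by
      rw [hg1, show g * (e : G)⁻¹ * T.S.qu * (g * (e : G)⁻¹)⁻¹ = g * ((e : G)⁻¹ * T.S.qu * e) * g⁻¹ by group,
        heu.inv_left.eq]
      group
    have hg1z : g1 * z2 * g1⁻¹ = T.S.F.z := by rw [hg1, hz2]; group
    -- conjugation by an element centralising `z`
    have hc : ∀ c ∈ T.X, c ∈ T.S.F.toPair.toConf.Cz →
        ∃ h : c * T.S.qu * c⁻¹ ∈ Hs, φ ⟨_, h⟩ = φ ⟨T.S.qu, hquH⟩ := by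
      intro c hcX hcC
      obtain ⟨r, hr, hn⟩ := T.S.decomp (inv_mem hcC)
      obtain ⟨n, hndef⟩ : ∃ n, n = c * r := ⟨_, rfl⟩
      have hnN : n ∈ T.S.N := by
        have := inv_mem hn
        rwa [_root_.mul_inv_rev, inv_inv, inv_inv, ← hndef] at this
      have hnH : n ∈ Hs := hcz n (hndef ▸ mul_mem hcX (T.R_le_X hr)) (hndef ▸ mul_mem hcC (T.S.R_le hr)) hnN
      have e : c * T.S.qu * c⁻¹ = n * T.S.qu * n⁻¹ := by
        rw [hndef, show c * r * T.S.qu * (c * r)⁻¹ = c * (r * T.S.qu * r⁻¹) * c⁻¹ by group,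
          (T.S.R_comm_U hr T.S.qu_mem).eq]
        group
      have hm' : n * T.S.qu * n⁻¹ ∈ Hs := mul_mem (mul_mem hnH hquH) (inv_mem hnH)
      refine ⟨e ▸ hm', ?_⟩
      rw [← hinv ⟨T.S.qu, hquH⟩ hnH hm']
      exact congrArg φ (Subtype.ext e)
    have hcases : z2 = T.S.F.z ∨ z2 = T.S.F.z⁻¹ := by
      obtain ⟨k, hk⟩ := mem_zpowers_iff.1 hz2Z
      have h3 : ∀ k : ℤ, T.S.F.z ^ k = T.S.F.z ^ (k % 3) := fun k => by
        conv_lhs => rw [← Int.emod_add_mul_ediv k 3, zpow_add, zpow_mul,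
          show (3 : ℤ) = ((3 : ℕ) : ℤ) from rfl, zpow_natCast, T.S.F.toPair.toConf.z3, one_zpow, mul_one]
        rfl
      rw [h3] at hk
      rcases (show k % 3 = 0 ∨ k % 3 = 1 ∨ k % 3 = 2 by omega) with e' | e' | e' <;> rw [e'] at hk
      · exfalso
        rw [zpow_zero] at hk
        rw [← hk, mul_one, mul_inv_cancel] at hg1z
        exact T.S.F.z_ne hg1z.symm
      · exact Or.inl (by rw [← hk, zpow_one])
      · refine Or.inr (hk.symm.trans ?_)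
        refine eq_inv_of_mul_eq_one_left ?_
        rw [← zpow_add_one, show (2 : ℤ) + 1 = ((3 : ℕ) : ℤ) from rfl, zpow_natCast, T.S.F.toPair.toConf.z3]
    rcases hcases with e' | e' <;> rw [e'] at hg1z
    · obtain ⟨h, hh⟩ := hc g1 hg1X (T.S.F.toPair.toConf.mem_Cz.2 (mul_inv_eq_iff_eq_mul.1 hg1z))
      rw [← hh]
      exact congrArg φ (Subtype.ext hg1x.symm)
    · have hcC : n0 * g1 ∈ T.S.F.toPair.toConf.Cz := T.S.F.toPair.toConf.mem_Cz.2 (mul_inv_eq_iff_eq_mul.1 (by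
        have h1 : g1 * T.S.F.z * g1⁻¹ = T.S.F.z⁻¹ := by
          rw [← conj_inv, inv_eq_iff_eq_inv] at hg1z; exact hg1z
        rw [show n0 * g1 * T.S.F.z * (n0 * g1)⁻¹ = n0 * (g1 * T.S.F.z * g1⁻¹) * n0⁻¹ by group, h1, ← conj_inv,
          hn0z, inv_inv]))
      obtain ⟨h, hh⟩ := hc (n0 * g1) (mul_mem (hHsX hn0H) hg1X) hcC
      rw [← hh, ← hinv ⟨_, h⟩ (inv_mem hn0H) (by
        show n0⁻¹ * (n0 * g1 * T.S.qu * (n0 * g1)⁻¹) * n0⁻¹⁻¹ ∈ Hs
        rw [show n0⁻¹ * (n0 * g1 * T.S.qu * (n0 * g1)⁻¹) * n0⁻¹⁻¹ = g1 * T.S.qu * g1⁻¹ by group, hg1x]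
        exact hSH hgS)]
      refine congrArg φ (Subtype.ext ?_)
      show g * T.S.qu * g⁻¹ = n0⁻¹ * (n0 * g1 * T.S.qu * (n0 * g1)⁻¹) * n0⁻¹⁻¹
      rw [← hg1x]
      group
  -- the transfer
  obtain ⟨H, hH⟩ : ∃ H : Subgroup T.X, H = Hs.subgroupOf T.X := ⟨_, rfl⟩
  let ψ : H →* Multiplicative (ZMod 3) :=
    φ.comp (MonoidHom.mk' (fun x => (⟨((x : T.X) : G), by
      have := x.2; simp only [hH, mem_subgroupOf] at this; exact this⟩ : Hs)) fun _ _ => rfl)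
  have hidx : ¬ 3 ∣ H.index := by
    obtain ⟨P, hP⟩ := (T.S.F.isPGroup_S.comap_of_injective T.X.subtype T.X.subtype_injective).exists_le_sylow
    have hPeq : (P : Subgroup T.X).map T.X.subtype = T.S.F.S := by
      have hle : T.S.F.S ≤ (P : Subgroup T.X).map T.X.subtype := fun y hy => ⟨⟨y, hSX hy⟩, hP hy, rfl⟩
      exact (eq_of_le_of_card_ge hle (by rw [T.S.card_FS]; exact T.S.three _ (P.isPGroup'.map _))).symm
    have hPH : (P : Subgroup T.X) ≤ H := fun y hy => hH ▸ hSH (hPeq ▸ ⟨y, hy, rfl⟩)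
    exact fun hd => P.not_dvd_index (hd.trans (index_dvd_of_le hPH))
  obtain ⟨a, ha⟩ : ∃ a, a = φ ⟨T.S.qu, hquH⟩ := ⟨_, rfl⟩
  have ha2 : a = Multiplicative.ofAdd (2 : ZMod 3) := by
    rw [ha]
    exact congrArg Multiplicative.ofAdd (qu_sign T.S).2.2
  have ha3 : a ^ 3 = 1 := by rw [ha2]; exact two_facts.1
  have htr : ψ.transfer (⟨T.S.qu, hqu⟩ : T.X) = a ^ H.index := by
    refine transfer_three ψ (Subtype.ext (T.S.F.exp_Q _ T.S.qu_mem.1)) ha3 fun g hh => ?_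
    have hh' : (g : G)⁻¹ * T.S.qu * g ∈ Hs := by
      simp only [hH, mem_subgroupOf] at hh
      exact hh
    have h1 : (g : G)⁻¹ * T.S.qu * (g : G)⁻¹⁻¹ ∈ Hs := by rwa [inv_inv]
    rw [ha, ← hfus _ (inv_mem g.2) h1]
    exact congrArg φ (Subtype.ext (by simp))
  rw [T.hom_trivial ψ.transfer, MonoidHom.one_apply, ha2] at htr
  have hd := orderOf_dvd_of_pow_eq_one htr.symm
  rw [orderOf_eq_prime two_facts.1 two_facts.2] at hd
  exact hidx hd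

/-- **The normal closure meets the centraliser of the involution in the elements fixing all frames.** -/
theorem meet_eq {g : T.C} (hX : (g : G) ∈ T.X) : T.permC g = 1 := by
  by_contra hg
  exact T.false_of_even hX hg fun h hh => by
    by_contra hodd
    exact T.false_of_odd hh hodd

end Ctx

end Cfsg.Agent.O8Three.Finish
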