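import Cfsg.Agent.Lib.O8Three.Lifts
import Mathlib.GroupTheory.Perm.Sign

/-!
S3372: decidable facts about the three frames of norm two.
-/

set_option autoImplicit false
set_option linter.style.haveILetI false
set_option linter.unusedSectionVars false
set_option maxRecDepth 20000
set_option synthInstance.maxSize 5000

namespace Cfsg.Agent.O8Three.Finish

open Subgroup
open Cfsg.Agent.HeisSLThree (pw pw_add pw_zero pw_one)

/-- A vector in each frame. -/
def rep : Fin 3 → V4
  | 0 => b3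
  | 1 => (0, 0, 1, 1)
  | 2 => (0, 0, 1, 2)

/-- Two vectors of norm two lie in the same frame. -/
def SameFr (u v : V4) : Prop := bf u v = 0 ∨ u = v ∨ u = -v

instance (u v : V4) : Decidable (SameFr u v) := by unfold SameFr; infer_instance

/-- The frame of a vector. -/
def fr (v : V4) : Fin 3 := if SameFr v (rep 0) then 0 else if SameFr v (rep 1) then 1 else 2

theorem rep_spec : ∀ i, qf (rep i) = 2 ∧ fr (rep i) = i := by decide +kernel

theorem fr_spec : ∀ u : V4, qf u = 2 → ∀ v : V4, qf v = 2 → (SameFr u v ↔ fr u = fr v) := by decide +kernel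

/-- The map of the frames. -/
def fp (M : M4) (i : Fin 3) : Fin 3 := fr (app M (rep i))

theorem fp_maps : (∀ i, fp oneM i = i) ∧ (∀ i, fp MT i = i) ∧ fp MU 0 = 2 ∧ fp MU 1 = 0 ∧ fp MU 2 = 1 := by
  decide +kernel

theorem perm_facts : (∀ σ : Equiv.Perm (Fin 3), σ * σ * σ = 1 → σ 0 = 0 → σ = 1) ∧
    (∀ σ : Equiv.Perm (Fin 3), Equiv.Perm.sign σ = 1 → σ * σ * σ = 1) ∧
    (∀ σ τ : Equiv.Perm (Fin 3), Equiv.Perm.sign σ = 1 → Equiv.Perm.sign τ = 1 → σ * τ = τ * σ) := by decide +kernel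

/-- The rotation of a permutation. -/
def rot (σ : Equiv.Perm (Fin 3)) : ZMod 3 := ((σ 0).val : ZMod 3)

theorem rot_mul : ∀ σ τ : Equiv.Perm (Fin 3), Equiv.Perm.sign σ = 1 → Equiv.Perm.sign τ = 1 →
    rot (σ * τ) = rot σ + rot τ := by decide +kernel

theorem rot_eq_zero : ∀ σ : Equiv.Perm (Fin 3), Equiv.Perm.sign σ = 1 → rot σ = 0 → σ = 1 := by decide +kernel

theorem sign_cases : ∀ σ : Equiv.Perm (Fin 3), σ = 1 ∨ σ * σ ≠ 1 ∨ Equiv.Perm.sign σ ≠ 1 := by decide +kernel

/-- The map of a monomial element on the frames, by the permutation of the coordinates. -/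
theorem fp_mkM : ∀ i j k : Fin 3, ∀ p q r s : Bool, i ≠ j → i ≠ k → j ≠ k →
    ((∀ l, fp (mkM i j k p q r s) l = l) ↔ (i = 0 ∧ j = 1 ∧ k = 2)) := by decide +kernel

end Cfsg.Agent.O8Three.Finish
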