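import Cfsg.Agent.Lib.O8Three.Lifts
import Cfsg.Agent.Lib.O8Three.Finish.FramesCheck

/-!
S3372: the normaliser of the torus permutes the three frames of norm two.
-/

set_option autoImplicit false
set_option linter.style.haveILetI false
set_option linter.unusedSectionVars false
set_option maxRecDepth 20000
set_option synthInstance.maxSize 5000

namespace Cfsg.Agent.O8Three.Finish

open Subgroup
open Cfsg.Agent.HeisSLThree (pw pw_add pw_zero pw_one)

variable {G : Type*} [Group G] [Finite G] (S : Setting G)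

/-- An induced map of the torus. -/
noncomputable def mapOf (n : S.N) : M4 := (S.acts_N n.2).choose

theorem mapOf_spec (n : S.N) : S.K.Acts (n : G) (mapOf S n) := (S.acts_N n.2).choose_spec

theorem fr_map {n : G} {M : M4} (h : S.K.Acts n M) {v : V4} (hv : qf v = 2) :
    fr (app M v) = fp M (fr v) := by
  obtain ⟨h2, hr⟩ := rep_spec (fr v)
  refine (fr_spec _ (by rw [S.qf_pres h, hv]) _ (by rw [S.qf_pres h, h2])).1 ?_
  rcases (fr_spec v hv _ h2).2 hr.symm with e | e | e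
  · exact Or.inl (by rw [S.bf_pres h, e])
  · exact Or.inr (Or.inl (congrArg (app M) e))
  · exact Or.inr (Or.inr ((congrArg (app M) e).trans (app_neg M _)))

theorem fp_mul {m n : G} {L M : M4} (hm : S.K.Acts m L) (hn : S.K.Acts n M) (i : Fin 3) :
    fp (mulM L M) i = fp L (fp M i) := by
  show fr (app (mulM L M) (rep i)) = fp L (fr (app M (rep i)))
  rw [app_mulM, fr_map S hm (by rw [S.qf_pres hn, (rep_spec i).1])]

theorem fp_inv (n : S.N) (i : Fin 3) : fp (mapOf S n⁻¹) (fp (mapOf S n) i) = i := by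
  have h1 : S.K.Acts (1 : G) (mulM (mapOf S n⁻¹) (mapOf S n)) := by
    have h := (mapOf_spec S n⁻¹).mul (mapOf_spec S n)
    rwa [InvMemClass.coe_inv, inv_mul_cancel] at h
  rw [← fp_mul S (mapOf_spec S n⁻¹) (mapOf_spec S n), S.K.acts_unique h1 S.K.acts_one]
  exact fp_maps.1 i

theorem fp_map_mul (m n : S.N) (i : Fin 3) : fp (mapOf S (m * n)) i = fp (mapOf S m) (fp (mapOf S n) i) := by
  rw [← fp_mul S (mapOf_spec S m) (mapOf_spec S n)]
  have h := (mapOf_spec S m).mul (mapOf_spec S n)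
  rw [← Subgroup.coe_mul] at h
  rw [S.K.acts_unique h (mapOf_spec S (m * n))]

/-- The permutation of one element. -/
noncomputable def permFun (n : S.N) : Equiv.Perm (Fin 3) where
  toFun := fp (mapOf S n)
  invFun := fp (mapOf S n⁻¹)
  left_inv := fp_inv S n
  right_inv i := by
    have h := fp_inv S n⁻¹ i
    rwa [inv_inv] at h

theorem permFun_apply (n : S.N) (i : Fin 3) : permFun S n i = fp (mapOf S n) i := rfl

/-- The permutation of the frames. -/
noncomputable def perm : S.N →* Equiv.Perm (Fin 3) :=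
  MonoidHom.mk' (permFun S) fun m n => Equiv.ext fun i => by
    rw [Equiv.Perm.mul_apply, permFun_apply, permFun_apply, permFun_apply, fp_map_mul]

theorem perm_apply {n : G} (hn : n ∈ S.N) {M : M4} (h : S.K.Acts n M) (i : Fin 3) :
    perm S ⟨n, hn⟩ i = fp M i := by
  show permFun S ⟨n, hn⟩ i = _
  rw [permFun_apply]
  rw [S.K.acts_unique (mapOf_spec S ⟨n, hn⟩) h]

theorem perm_A {a : G} (ha : a ∈ S.K.A) : perm S ⟨a, S.A_le_N ha⟩ = 1 :=
  Equiv.ext fun i => by rw [perm_apply S _ (S.K.acts_of_mem ha)]; exact fp_maps.1 i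

theorem Q_le_N : S.F.Q ≤ S.N := fun q hq => S.mem_N fun a ha => S.hA.symm ▸ S.F.mapQ hq (S.hA ▸ ha)

theorem qu_mem_N : S.qu ∈ S.N := Q_le_N S S.qu_mem.1

theorem qu_sign : Equiv.Perm.sign (perm S ⟨S.qu, qu_mem_N S⟩) = 1 ∧ perm S ⟨S.qu, qu_mem_N S⟩ ≠ 1 ∧
    rot (perm S ⟨S.qu, qu_mem_N S⟩) = 2 := by
  have key : ∀ σ : Equiv.Perm (Fin 3), σ 0 = 2 → σ 1 = 0 → σ 2 = 1 →
      Equiv.Perm.sign σ = 1 ∧ σ ≠ 1 ∧ rot σ = 2 := by decide +kernel
  obtain ⟨-, -, h0, h1, h2⟩ := fp_maps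
  refine key _ ?_ ?_ ?_ <;> rw [perm_apply S _ S.acts_u] <;> assumption

/-- The elements of `W` fix all frames. -/
theorem perm_W {w : G} (hw : w ∈ S.F.toPair.toConf.W) : perm S ⟨w, Q_le_N S hw.1⟩ = 1 := by
  refine perm_facts.1 _ ?_ ?_
  · rw [← map_mul, ← map_mul, ← map_one (perm S)]
    refine congrArg _ (Subtype.ext ?_)
    show w * w * w = 1
    rw [← pow_two, ← pow_succ]
    exact S.F.exp_Q _ hw.1
  · obtain ⟨M, hM⟩ := S.acts_N (Q_le_N S hw.1)
    have h3 : app M b3 = b3 := S.K.φ_inj (by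
      rw [← hM, S.K.φ_b3, mul_inv_eq_iff_eq_mul]
      exact (S.F.toPair.toConf.commute_WU hw S.p3_mem).eq)
    rw [perm_apply S _ hM]
    show fr (app M b3) = 0
    rw [h3]
    decide

/-- A monomial element fixes all frames exactly when it permutes no coordinates. -/
theorem perm_coord {n : G} (ht : Commute n S.F.t) (hN : ∀ i, n * S.e i * n⁻¹ ∈ S.E) :
    perm S ⟨n, S.norm_E ht hN⟩ = 1 ↔ ∀ i, n * S.e i * n⁻¹ = S.e i ∨ n * S.e i * n⁻¹ = (S.e i)⁻¹ := by
  obtain ⟨M, hM⟩ := S.acts_N (S.norm_E ht hN)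
  obtain ⟨⟨σ, hσ⟩, hb⟩ := S.monoM hM ht
  have hsgn : ∀ v w : V4, v = w ∨ v = -w → ∃ b : Bool, v = smulV (sg b) w := by
    intro v w hw
    rcases hw with h1 | h1
    · exact ⟨false, by rw [h1]; simp [sg, smulV]⟩
    · refine ⟨true, ?_⟩
      rw [h1]
      obtain ⟨a, b, c, d⟩ := w
      have key : ∀ x : ZMod 3, -x = 2 * x := by decide
      simp [sg, smulV, key]
  obtain ⟨p, hp⟩ := hsgn _ _ (hσ 0)
  obtain ⟨q, hq⟩ := hsgn _ _ (hσ 1)
  obtain ⟨r, hr⟩ := hsgn _ _ (hσ 2)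
  obtain ⟨s, hs⟩ := hsgn _ _ hb
  obtain ⟨e1, e3, e4⟩ := evv_basis
  obtain ⟨c1, c2, c3, c4⟩ := app_cols M
  have hMk : M = mkM (σ 0) (σ 1) (σ 2) p q r s := by
    refine Prod.ext ?_ (Prod.ext ?_ (Prod.ext ?_ ?_))
    · rw [← c1, e1, app_add, app_add, hp, hq, hr]; rfl
    · rw [← c2, hs]; rfl
    · rw [← c3, e3, app_add, app_neg, hq, hr]; rfl
    · rw [← c4, e4, app_add, e1, app_add, app_add, hp, hq, hr]; rfl
  have hiff := fp_mkM (σ 0) (σ 1) (σ 2) p q r s (by simp) (by simp) (by simp)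
  rw [← hMk] at hiff
  constructor
  · intro h i
    have hσ1 : ∀ j, σ j = j := by
      obtain ⟨x, y, z⟩ := hiff.1 fun l => by rw [← perm_apply S (S.norm_E ht hN) hM, h]; rfl
      intro j; fin_cases j <;> assumption
    rw [Setting.e, hM, ← S.φ_neg]
    rcases hσ i with e | e <;> rw [e, hσ1]
    · exact Or.inl rfl
    · exact Or.inr rfl
  · intro h
    have hσ1 : ∀ j, σ j = j := fun j => by
      rcases h j with e | e <;> rw [Setting.e, hM] at e
      · rcases hσ j with e' | e' <;> rw [e'] at e <;>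
          exact evv_distinct _ _ (by first | exact Or.inl (S.K.φ_inj e) | exact Or.inr (by rw [← S.K.φ_inj e, neg_neg]))
      · rw [← S.φ_neg] at e
        rcases hσ j with e' | e' <;> rw [e'] at e <;>
          exact evv_distinct _ _ (by first | exact Or.inr (S.K.φ_inj e) | exact Or.inl (neg_injective (S.K.φ_inj e)))
    exact Equiv.ext fun l => by
      rw [perm_apply S _ hM]
      exact hiff.2 ⟨hσ1 0, hσ1 1, hσ1 2⟩ l

end Cfsg.Agent.O8Three.Finish
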