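import Cfsg.Agent.Lib.O8Three.Finish.Normal

/-!
S3372: the Frattini argument: the group is the product of the normal closure of the torus and the centraliser of
the involution.
-/

set_option autoImplicit false
set_option linter.style.haveILetI false
set_option linter.unusedSectionVars false

namespace Cfsg.Agent.O8Three.Finish

open Subgroup

namespace Ctx

variable {G : Type*} [Group G] [Finite G] (T : Ctx G)

/-- A 2-group containing the core has the involution as its only central involution. -/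
theorem centre_eq {P : Subgroup G} (hP : T.D.WW.map T.C.subtype ≤ P) {x : G} (hx : x ∈ P)
    (hc : ∀ y ∈ P, Commute x y) (hx1 : x ≠ 1) : x = T.S.F.t := by
  have hxC : x ∈ T.C := mem_centralizer_singleton_iff.2 (by
    rw [← T.hz]
    exact (hc _ (hP ⟨_, T.D.z_mem_WW, rfl⟩)).eq)
  rcases T.D.cent_WW_le (g := ⟨x, hxC⟩) (T.top.symm ▸ mem_top _)
    (fun y hy => Subtype.ext (hc _ (hP ⟨y, hy, rfl⟩)).eq) with h | h
  · exact absurd (congrArg Subtype.val h) hx1
  · rw [← T.hz]; exact congrArg Subtype.val h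

theorem frattini : T.X ⊔ T.C = ⊤ := by
  classical
  haveI : Fact (Nat.Prime 2) := ⟨Nat.prime_two⟩
  -- a Sylow subgroup of the centraliser in the normal closure
  obtain ⟨H, hH⟩ : ∃ H, H = T.X ⊓ T.C := ⟨_, rfl⟩
  have hWH : T.D.WW.map T.C.subtype ≤ H := hH ▸ le_inf T.WW_le_X (map_subtype_le _)
  obtain ⟨P, hP⟩ := ((T.card_two_WW.map T.C.subtype).comap_of_injective H.subtype
    H.subtype_injective).exists_le_sylow
  obtain ⟨Q, hQ⟩ : ∃ Q, Q = (P : Subgroup H).map H.subtype := ⟨_, rfl⟩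
  have hWQ : T.D.WW.map T.C.subtype ≤ Q := fun w hw => hQ ▸ ⟨⟨w, hWH hw⟩, hP hw, rfl⟩
  have hQH : Q ≤ H := hQ ▸ map_subtype_le _
  have hQC : Q ≤ T.C := hQH.trans (hH ▸ inf_le_right)
  have hQX : Q ≤ T.X := hQH.trans (hH ▸ inf_le_left)
  -- it is a Sylow subgroup of the normal closure
  obtain ⟨Y, hY⟩ := ((P.isPGroup'.map H.subtype).comap_of_injective T.X.subtype
    T.X.subtype_injective).exists_le_sylow
  obtain ⟨U, hU⟩ : ∃ U, U = (Y : Subgroup T.X).map T.X.subtype := ⟨_, rfl⟩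
  have hQU : Q ≤ U := fun q hq => hU ▸ ⟨⟨q, hQX hq⟩, hY (by rw [← hQ]; exact hq), rfl⟩
  have hnorm : ∀ g ∈ normalizer (Q : Set G), g ∈ T.C := by
    intro g hg
    have ht : T.S.F.t ∈ Q := T.hz ▸ hWQ ⟨_, T.D.z_mem_WW, rfl⟩
    refine mem_centralizer_singleton_iff.2 (mul_inv_eq_iff_eq_mul.1 (T.centre_eq hWQ
      ((mem_normalizer_iff.1 hg _).1 ht) (fun y hy => ?_) fun e => T.S.t_not_one (by simpa using e)))
    have hy' : g⁻¹ * y * g ∈ Q := (mem_normalizer_iff.1 hg _).2 (by
      rwa [show g * (g⁻¹ * y * g) * g⁻¹ = y by group])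
    have h : Commute T.S.F.t (g⁻¹ * y * g) := Commute.symm (mem_centralizer_singleton_iff.1 (hQC hy'))
    have h2 := h.map (MulAut.conj g)
    simpa [mul_assoc] using h2
  have heq : Q = U := by
    by_contra hne
    have hUp : IsPGroup 2 U := hU ▸ Y.isPGroup'.map _
    haveI : Group.IsNilpotent ↥U := hUp.isNilpotent
    have hlt : Q.subgroupOf U < ⊤ := lt_top_iff_ne_top.2 fun e =>
      hne (le_antisymm hQU (subgroupOf_eq_top.1 e))
    obtain ⟨⟨g, hgU⟩, hg, hgQ⟩ := SetLike.exists_of_lt (Group.normalizerCondition_of_isNilpotent _ hlt)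
    have hgn : g ∈ normalizer (Q : Set G) := mem_normalizer_iff.2 fun x => by
      constructor
      · exact fun hx => (mem_normalizer_iff.1 hg ⟨x, hQU hx⟩).1 hx
      · intro hx
        have hxU : x ∈ U := by
          have := mul_mem (mul_mem (inv_mem hgU) (hQU hx)) hgU
          rwa [show g⁻¹ * (g * x * g⁻¹) * g = x by group] at this
        exact (mem_normalizer_iff.1 hg ⟨x, hxU⟩).2 hx
    have hgH : g ∈ H := hH ▸ ⟨(hU ▸ map_subtype_le _ : U ≤ T.X) hgU, hnorm g hgn⟩
    have hsup : IsPGroup 2 ↥(Q ⊔ zpowers g) := hUp.to_le (sup_le hQU (zpowers_le.2 hgU))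
    have h1 := P.is_maximal' (hsup.comap_of_injective H.subtype H.subtype_injective) (fun q hq => mem_sup_left
      (hQ ▸ ⟨q, hq, rfl⟩))
    refine hgQ (show g ∈ Q from ?_)
    rw [hQ]
    exact ⟨⟨g, hgH⟩, h1 ▸ mem_sup_right (mem_zpowers g), rfl⟩
  haveI : T.X.Normal := normalClosure_normal
  rw [eq_top_iff, ← Sylow.normalizer_sup_eq_top Y, ← hU, ← heq]
  exact sup_le (fun g hg => mem_sup_right (hnorm g hg)) le_sup_left

/-- If the centraliser lies in the normal closure, the group is generated by the torus and its conjugates. -/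
theorem residual_of_le (h : T.C ≤ T.X) : Cfsg.pResidual 2 G = ⊤ := by
  have hX : T.X = ⊤ := eq_top_iff.2 (T.frattini ▸ sup_le le_rfl h)
  refine eq_top_iff.2 fun g _ => ?_
  have hg : (⟨g, hX ▸ mem_top g⟩ : T.X) ∈ Cfsg.pResidual 2 T.X := T.residual_X ▸ mem_top _
  exact PBasic.map_pResidual_le T.X.subtype ⟨_, hg, rfl⟩

end Ctx

end Cfsg.Agent.O8Three.Finish
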