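import Cfsg.Agent.Lib.O8Three.Finish.Base
import Cfsg.Agent.Lib.O8Three.Pairs
import Cfsg.Agent.Lib.Transfer.Basic

/-!
S3372: the normal closure of the torus contains the part of the centraliser of the involution without permutation
of the frames.
-/

set_option autoImplicit false
set_option linter.style.haveILetI false
set_option linter.unusedSectionVars false
set_option maxRecDepth 20000
set_option synthInstance.maxSize 5000

namespace Cfsg.Agent.O8Three.Finish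

open Subgroup

theorem flip_maps : ∀ p q r s : Bool, mulM MT (mkM 0 1 2 p q r s) = mulM (mkM 0 1 2 p q r s) MT := by
  decide +kernel

/-- A group of order eight with only the centre fixed by an element of order three lies in every normal subgroup
containing that element. -/
theorem eight_le {G : Type*} [Group G] [Finite G] {X : Subgroup G} [X.Normal] {P : Subgroup G} {t e : G}
    (hP : Nat.card P = 8) (ht : t ∈ P) (hcen : ∀ x ∈ P, Commute x t) (hnab : ∃ a ∈ P, ∃ b ∈ P, a * b ≠ b * a)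
    (ht1 : t ≠ 1) (htsq : t * t = 1) (he3 : e ^ 3 = 1) (het : Commute e t) (heX : e ∈ X) (hnorm : ∀ x ∈ P, e * x * e⁻¹ ∈ P)
    (hfix : ∀ x ∈ P, Commute x e → x = 1 ∨ x = t) : P ≤ X := by
  classical
  haveI : Fintype P := Fintype.ofFinite _
  haveI : Fact (Nat.Prime 2) := ⟨Nat.prime_two⟩
  let f : P → (X ⊓ P : Subgroup G) := fun r => ⟨e * r * e⁻¹ * (r : G)⁻¹, by
    rw [show e * (r : G) * e⁻¹ * (r : G)⁻¹ = e * ((r : G) * e⁻¹ * (r : G)⁻¹) by group]
    exact mem_inf.2 ⟨mul_mem heX (Normal.conj_mem ‹X.Normal› _ (inv_mem heX) _), by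
      rw [← mul_assoc, ← mul_assoc]; exact mul_mem (hnorm r r.2) (inv_mem r.2)⟩⟩
  have hfib : ∀ r s : P, f r = f s → s = r ∨ (s : G) = r * t := by
    intro r s h
    have h1 : e * r * e⁻¹ * (r : G)⁻¹ = e * s * e⁻¹ * (s : G)⁻¹ := congrArg Subtype.val h
    have h2 : Commute ((r : G)⁻¹ * s) e := by
      refine (mul_inv_eq_iff_eq_mul.1 ?_).symm
      calc e * ((r : G)⁻¹ * s) * e⁻¹ = (e * r * e⁻¹ * (r : G)⁻¹ * r)⁻¹ * (e * s * e⁻¹) := by group
        _ = (e * s * e⁻¹ * (s : G)⁻¹ * r)⁻¹ * (e * s * e⁻¹) := by rw [h1]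
        _ = (r : G)⁻¹ * s := by group
    rcases hfix _ (mul_mem (inv_mem r.2) s.2) h2 with h3 | h3
    · exact Or.inl (Subtype.ext (inv_mul_eq_one.1 h3).symm)
    · exact Or.inr (inv_mul_eq_iff_eq_mul.1 h3)
  have h4 : 8 ≤ 2 * Nat.card (X ⊓ P : Subgroup G) := by
    haveI : Fintype (X ⊓ P : Subgroup G) := Fintype.ofFinite _
    have h := Finset.card_le_mul_card_image (f := f) (Finset.univ : Finset P) 2 fun a ha => by
      obtain ⟨r, -, rfl⟩ := Finset.mem_image.1 ha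
      refine le_trans (Finset.card_le_card (t := {r, r * ⟨t, ht⟩}) fun s hs => ?_) Finset.card_le_two
      rcases hfib r s (Finset.mem_filter.1 hs).2.symm with h | h
      · simp [h]
      · exact Finset.mem_insert_of_mem (Finset.mem_singleton.2 (Subtype.ext h))
    rw [Finset.card_univ, ← Nat.card_eq_fintype_card, hP] at h
    refine h.trans (Nat.mul_le_mul_left 2 ?_)
    rw [Nat.card_eq_fintype_card]
    exact Finset.card_le_univ _
  rcases dvd_eight (hP ▸ Subgroup.card_dvd_of_le (inf_le_right : X ⊓ P ≤ P)) with h | h | h | h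
  · omega
  · omega
  · exfalso
    obtain ⟨K, hK⟩ : ∃ K, K = X ⊓ P := ⟨_, rfl⟩
    rw [← hK] at h h4
    by_cases htK : t ∈ K
    · obtain ⟨r, hr, hr1, hrt⟩ : ∃ r ∈ K, r ≠ 1 ∧ r ≠ t := by
        by_contra hcon
        push Not at hcon
        have hle : Nat.card K ≤ ({1, t} : Finset G).card := by
          rw [← Set.ncard_coe_finset, ← Nat.card_coe_set_eq]
          refine Nat.card_mono (Finset.finite_toSet _) fun x hx => ?_
          by_cases h1 : x = 1
          · simp [h1]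
          · simp [hcon x hx h1]
        have := hle.trans Finset.card_le_two
        omega
      have hrP : r ∈ P := (hK ▸ hr : r ∈ X ⊓ P).2
      have hconj : e * r * e⁻¹ ∈ K := hK ▸ ⟨Normal.conj_mem ‹X.Normal› _ (hK ▸ hr : r ∈ X ⊓ P).1 _, hnorm r hrP⟩
      have h1 : e * r * e⁻¹ ≠ r := fun h0 =>
        (hfix r hrP (mul_inv_eq_iff_eq_mul.1 h0).symm).elim hr1 hrt
      have htt : e * t * e⁻¹ = t := mul_inv_eq_iff_eq_mul.2 het.eq
      have h2 : e * r * e⁻¹ ≠ t * r := fun h0 => by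
        have e2 : e * e * r * (e * e)⁻¹ = r := by
          rw [show e * e * r * (e * e)⁻¹ = e * (e * r * e⁻¹) * e⁻¹ by group, h0,
            show e * (t * r) * e⁻¹ = (e * t * e⁻¹) * (e * r * e⁻¹) by group, htt, h0, ← mul_assoc, htsq, one_mul]
        refine h1 ?_
        calc e * r * e⁻¹ = e * (e * e * r * (e * e)⁻¹) * e⁻¹ := by rw [e2]
          _ = e ^ 3 * r * (e ^ 3)⁻¹ := by simp only [pow_succ, pow_zero, one_mul, mul_inv_rev, mul_assoc]
          _ = r := by rw [he3]; group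
      have he1 : e * r * e⁻¹ ≠ 1 := fun h0 => hr1 (by simpa using h0)
      have he2 : e * r * e⁻¹ ≠ t := fun h0 => hrt (by
        have h3 := h0.trans htt.symm
        simpa using h3)
      have hsub : ({1, t, r, t * r, e * r * e⁻¹} : Finset G).card ≤ 4 := by
        rw [← h, ← Set.ncard_coe_finset, ← Nat.card_coe_set_eq]
        refine Nat.card_mono (Set.toFinite (K : Set G)) fun x hx => ?_
        simp only [Finset.coe_insert, Finset.coe_singleton, Set.mem_insert_iff, Set.mem_singleton_iff] at hx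
        rcases hx with rfl | rfl | rfl | rfl | rfl
        exacts [one_mem _, htK, hr, mul_mem htK hr, hconj]
      have htr : t * r ≠ 1 := fun h0 => hrt (mul_left_cancel (h0.trans htsq.symm))
      rw [Finset.card_insert_of_notMem, Finset.card_insert_of_notMem, Finset.card_insert_of_notMem,
        Finset.card_pair (Ne.symm h2)] at hsub
      · omega
      · simp [Ne.symm h1, ht1]
      · simp [Ne.symm hrt, hr1, Ne.symm he2]
      · simp [Ne.symm ht1, Ne.symm hr1, Ne.symm htr, Ne.symm he1]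
    · -- the intersection is abelian and, with the centre, fills the group
      obtain ⟨a, ha, b, hb, hab⟩ := hnab
      have hKP : K ≤ P := hK ▸ inf_le_right
      have hcomm : ∀ x ∈ K, ∀ y ∈ K, x * y = y * x := fun x hx y hy =>
        congrArg Subtype.val ((IsPGroup.commutative_of_card_eq_prime_sq (p := 2) (G := K) (by rw [h]; norm_num))
          ⟨x, hx⟩ ⟨y, hy⟩)
      have hidx : (K.subgroupOf P).index = 2 := by
        have h1 := (K.subgroupOf P).card_mul_index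
        rw [Nat.card_congr (subgroupOfEquivOfLe hKP).toEquiv, h, hP] at h1
        omega
      have hdec : ∀ x ∈ P, x ∈ K ∨ x * t ∈ K := by
        intro x hx
        by_cases hxK : x ∈ K
        · exact Or.inl hxK
        · refine Or.inr (mem_subgroupOf.1 (?_ : (⟨x, hx⟩ * ⟨t, ht⟩ : P) ∈ K.subgroupOf P))
          rw [mul_mem_iff_of_index_two hidx, mem_subgroupOf, mem_subgroupOf]
          exact iff_of_false hxK htK
      refine hab ?_
      rcases hdec a ha with h1 | h1 <;> rcases hdec b hb with h2 | h2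
      · exact hcomm _ h1 _ h2
      · have h3 : Commute a (b * t * t⁻¹) := Commute.mul_right (hcomm _ h1 _ h2) (hcen a ha).inv_right
        rwa [mul_inv_cancel_right] at h3
      · have h3 : Commute (a * t * t⁻¹) b := Commute.mul_left (hcomm _ h1 _ h2) (hcen b hb).symm.inv_left
        rwa [mul_inv_cancel_right] at h3
      · have h3 : Commute (a * t * t⁻¹) (b * t * t⁻¹) := by
          refine Commute.mul_left (Commute.mul_right (hcomm _ h1 _ h2) ?_) (Commute.mul_right ?_ (Commute.refl _))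
          · exact ((hcen a ha).mul_left (Commute.refl t)).inv_right
          · exact ((hcen b hb).mul_left (Commute.refl t)).symm.inv_left
        rwa [mul_inv_cancel_right, mul_inv_cancel_right] at h3
  · intro x hx
    have := eq_of_le_of_card_ge (inf_le_right : X ⊓ P ≤ P) (by omega)
    exact (this.symm ▸ hx : x ∈ X ⊓ P).1

theorem bf_b2 : (∀ v : V4, bf b2 v = v.2.1) ∧ (∀ i j : Fin 3, i ≠ j → bf (evv i) (evv j) = 0) ∧
    ∀ i : Fin 3, bf (evv i) b2 = 0 := by decide +kernel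

theorem sg_spec : ∀ v : V4, smulV (sg true) v = -v ∧ smulV (sg false) v = v := by decide +kernel

theorem cube_ev {G : Type*} [Group G] [Finite G] (S : Setting G) (i : Fin 3) : S.e i ^ 3 = 1 := S.K.exp _ (S.K.φ_mem _)

namespace Ctx

variable {G : Type*} [Group G] [Finite G] (T : Ctx G)

/-- The normal closure of the torus. -/
abbrev X : Subgroup G := normalClosure (T.S.K.A : Set G)

theorem A_le_X : T.S.K.A ≤ T.X := subset_normalClosure

theorem residual_X : Cfsg.pResidual 2 T.X = ⊤ := by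
  have hle : T.X ≤ (Cfsg.pResidual 2 T.X).map T.X.subtype := (closure_le _).2 fun x hx => by
    obtain ⟨a, ha, hc⟩ := Group.mem_conjugatesOfSet_iff.1 hx
    obtain ⟨g, rfl⟩ := isConj_iff.1 hc
    have hm : g * a * g⁻¹ ∈ T.X := Normal.conj_mem normalClosure_normal _ (T.A_le_X ha) g
    refine ⟨⟨_, hm⟩, PBasic.mem_pResidual ?_, rfl⟩
    rw [← orderOf_coe]
    exact Nat.Coprime.coprime_dvd_left (orderOf_dvd_of_pow_eq_one (n := 3)
      (by show (g * a * g⁻¹) ^ 3 = 1; rw [conj_pow, T.S.K.exp _ ha]; simp)) (by norm_num)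
  refine eq_top_iff.2 fun x _ => ?_
  obtain ⟨y, hy, e⟩ := hle x.2
  exact Subtype.ext e ▸ hy

theorem R_le_X : T.S.R ≤ T.X := by
  obtain ⟨h4, hc4⟩ := T.S.mem_L.1 T.S.p4_mem_L
  exact eight_le T.S.card_R T.S.t_mem_R (fun x hx => T.S.R_comm_t hx) T.S.R_nonab T.S.t_not_one T.S.t_sq
    (T.S.K.exp _ T.S.K.m4) hc4 (T.A_le_X T.S.K.m4) (fun x hx => T.S.R_norm h4 hc4 hx) fun x hx h => T.S.R_fix hx h

theorem t_mem_X : T.S.F.t ∈ T.X := T.R_le_X T.S.t_mem_R

theorem E_le_X : T.S.E ≤ T.X := T.S.E_le.trans T.A_le_X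

theorem W_le_X (s t : Bool) : (T.D.W s t).map T.C.subtype ≤ T.X := by
  have h0 : (T.D.e 0 : G) = T.S.e 0 := T.he 0
  refine eight_le (t := (T.D.z : G)) (e := T.S.e 0) ?_ ⟨_, T.D.z_mem_W s t, rfl⟩ ?_ ?_ ?_ ?_ ?_ ?_
    (T.A_le_X (T.S.K.φ_mem _)) ?_ ?_
  · rw [card_map_of_injective T.C.subtype_injective]; exact T.D.W_card s t
  · rintro _ ⟨x, -, rfl⟩
    exact congrArg Subtype.val (T.D.central x)
  · obtain ⟨a, ha, b, hb, hab⟩ := T.D.W_nonab s t
    exact ⟨a, ⟨a, ha, rfl⟩, b, ⟨b, hb, rfl⟩, fun h => hab (Subtype.ext h)⟩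
  · rw [T.hz]; exact T.S.t_not_one
  · rw [T.hz]; exact T.S.t_sq
  · exact cube_ev T.S 0
  · rw [← h0]; exact congrArg Subtype.val (T.D.central (T.D.e 0))
  · rintro _ ⟨x, hx, rfl⟩
    rw [← h0]
    exact ⟨_, T.D.W_norm_ev hx (T.D.e_mem 0), rfl⟩
  · rintro _ ⟨x, hx, rfl⟩ h
    rw [← h0] at h
    rcases T.D.W_fix hx (Subtype.ext h.eq.symm) with e | e <;> rw [e]
    · exact Or.inl rfl
    · exact Or.inr rfl

theorem WW_le_X : T.D.WW.map T.C.subtype ≤ T.X := by
  rw [Cube.Data.WW, Subgroup.map_sup, Subgroup.map_sup, Subgroup.map_sup]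
  exact sup_le (sup_le (sup_le (T.W_le_X _ _) (T.W_le_X _ _)) (T.W_le_X _ _)) (T.W_le_X _ _)

/-- Every sign change is induced by a member of the normal closure. -/
theorem exists_flip (i : Fin 3) : ∃ f : T.C, (f : G) ∈ T.X ∧
    (f : G) * T.S.e i * (f : G)⁻¹ = (T.S.e i)⁻¹ ∧
    ∀ j, j ≠ i → (f : G) * T.S.e j * (f : G)⁻¹ = T.S.e j := by
  set S := T.S
  obtain ⟨l1, -, h1⟩ := toE_all b2 norms_b.1
  obtain ⟨l2, -, h2⟩ := toE_all (evv i) (evv_norm i).1
  obtain ⟨n1, hn1⟩ := S.lift_word l1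
  obtain ⟨n2, hn2⟩ := S.lift_word l2
  obtain ⟨m, hm⟩ : ∃ m, m = n2 * n1⁻¹ := ⟨_, rfl⟩
  have hmN : m ∈ S.N := hm ▸ mul_mem (S.mem_N_of_acts hn2) (inv_mem (S.mem_N_of_acts hn1))
  obtain ⟨M, hM⟩ := S.acts_N hmN
  have hMb : app M b2 = evv i := S.K.φ_inj (by
    have e1 : n1 * S.K.φ e0v * n1⁻¹ = S.K.φ b2 := by rw [hn1, h1]
    have e2 : n2 * S.K.φ e0v * n2⁻¹ = S.K.φ (evv i) := by rw [hn2, h2]
    rw [← hM, ← e1, hm, ← e2]
    group)
  -- a conjugate of the involution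
  obtain ⟨f, hf⟩ : ∃ f, f = m * S.F.t * m⁻¹ := ⟨_, rfl⟩
  have hfX : f ∈ T.X := hf ▸ Normal.conj_mem normalClosure_normal _ T.t_mem_X m
  have hfN : f ∈ S.N := hf ▸ mul_mem (mul_mem hmN (S.mem_N_of_acts S.acts_t)) (inv_mem hmN)
  obtain ⟨M', hM'⟩ := S.acts_N hfN
  have hneg : app M' (evv i) = -evv i := by
    refine S.K.φ_inj ?_
    have key : app MT b2 = -b2 := by decide
    rw [← hM', hf, show m * S.F.t * m⁻¹ * S.K.φ (evv i) * (m * S.F.t * m⁻¹)⁻¹ =
      m * (S.F.t * (m⁻¹ * S.K.φ (evv i) * m) * S.F.t⁻¹) * m⁻¹ by group,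
      show m⁻¹ * S.K.φ (evv i) * m = S.K.φ b2 by rw [← hMb, ← hM]; group, S.acts_t, key, S.φ_neg,
      ← conj_inv, hM, hMb, S.φ_neg]
  have hfix : ∀ u, bf (evv i) u = 0 → app M' u = u := by
    intro u hu
    obtain ⟨N, hN⟩ := S.acts_N (inv_mem hmN)
    have hv : (app N u).2.1 = 0 := by
      rw [← bf_b2.1, ← S.bf_pres hM]
      rw [hMb, show app M (app N u) = u from S.K.φ_inj (by rw [← hM, ← hN]; group)]
      exact hu
    refine S.K.φ_inj ?_
    have key : ∀ v : V4, v.2.1 = 0 → app MT v = v := by decide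
    rw [← hM', hf, show m * S.F.t * m⁻¹ * S.K.φ u * (m * S.F.t * m⁻¹)⁻¹ =
      m * (S.F.t * (m⁻¹ * S.K.φ u * m⁻¹⁻¹) * S.F.t⁻¹) * m⁻¹ by group, hN, S.acts_t, key _ hv, ← hN]
    group
  obtain ⟨e1, e3, e4⟩ := evv_basis
  obtain ⟨c1, c2, c3, c4⟩ := app_cols M'
  have hall : ∀ j, app M' (evv j) = smulV (sg (decide (j = i))) (evv j) := fun j => by
    by_cases hj : j = i
    · rw [decide_eq_true hj, hj, (sg_spec _).1, hneg]
    · rw [decide_eq_false hj, (sg_spec _).2, hfix _ (bf_b2.2.1 i j (Ne.symm hj))]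
  have hMk : M' = mkM 0 1 2 (decide ((0 : Fin 3) = i)) (decide ((1 : Fin 3) = i)) (decide ((2 : Fin 3) = i)) false := by
    refine Prod.ext ?_ (Prod.ext ?_ (Prod.ext ?_ ?_))
    · rw [← c1, e1, app_add, app_add, hall, hall, hall]; rfl
    · rw [← c2, hfix _ (bf_b2.2.2 i), ← (sg_spec b2).2]; rfl
    · rw [← c3, e3, app_add, app_neg, hall, hall]; rfl
    · rw [← c4, e4, app_add, e1, app_add, app_add, hall, hall, hall]; rfl
  obtain ⟨n, hn, hnt⟩ := S.lift_t hM' (by rw [hMk]; exact flip_maps _ _ _ _)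
  have hA : f⁻¹ * n ∈ S.K.A := S.cent_A fun a ha => by
    obtain ⟨v, rfl⟩ := S.K.φ_surj ha
    refine mul_inv_eq_iff_eq_mul.1 ?_
    rw [show f⁻¹ * n * S.K.φ v * (f⁻¹ * n)⁻¹ = f⁻¹ * (n * S.K.φ v * n⁻¹) * f by group, hn, ← hM']
    group
  refine ⟨⟨n, mem_centralizer_singleton_iff.2 hnt.eq⟩, ?_, ?_, fun j hj => ?_⟩
  · show n ∈ T.X
    rw [← mul_inv_cancel_left f n]
    exact mul_mem hfX (T.A_le_X hA)
  · show n * S.e i * n⁻¹ = _
    rw [Setting.e, hn, hneg, S.φ_neg]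
  · show n * S.e j * n⁻¹ = _
    rw [Setting.e, hn, hfix _ (bf_b2.2.1 i j (Ne.symm hj))]

theorem nf_mem_X (i : Fin 3) : (T.D.nf i : G) ∈ T.X := by
  obtain ⟨f, hf, hself, hother⟩ := T.exists_flip i
  have hc : ∀ j, (f⁻¹ * T.D.nf i) * T.D.e j = T.D.e j * (f⁻¹ * T.D.nf i) := fun j => by
    rw [← mul_inv_eq_iff_eq_mul]
    refine Subtype.ext ?_
    simp only [Subgroup.coe_mul, InvMemClass.coe_inv, T.he]
    have h1 : (T.D.nf i : G) * T.S.e j * (T.D.nf i : G)⁻¹ = (f : G) * T.S.e j * (f : G)⁻¹ := by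
      by_cases hj : j = i
      · subst hj
        rw [hself, ← T.conj_e, T.D.nf_self, InvMemClass.coe_inv, T.he]
      · rw [hother j hj, ← T.conj_e, T.D.nf_other hj, T.he]
    calc (f : G)⁻¹ * T.D.nf i * T.S.e j * ((f : G)⁻¹ * T.D.nf i)⁻¹
        = (f : G)⁻¹ * ((T.D.nf i : G) * T.S.e j * (T.D.nf i : G)⁻¹) * f := by group
      _ = T.S.e j := by rw [h1]; group
  obtain ⟨a, ha, e⟩ := T.D.cent_E hc
  have haX : (a : G) ∈ T.X := T.E_le_X (T.coe_mem_E.2 ha)
  have h : ((f⁻¹ * T.D.nf i : T.C) : G) ∈ T.X := by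
    rcases e with e | e <;> rw [e]
    · exact haX
    · rw [Subgroup.coe_mul, T.hz]; exact mul_mem T.t_mem_X haX
  rw [Subgroup.coe_mul, InvMemClass.coe_inv] at h
  simpa using mul_mem hf h

theorem N_le_X : T.D.N.map T.C.subtype ≤ T.X := by
  rintro _ ⟨n, hn, rfl⟩
  obtain ⟨a, ha, p, q, r, e⟩ := T.D.N_dec hn
  have h1 : T.D.nn p q r ∈ T.X.subgroupOf T.C :=
    mul_mem (mul_mem (pow_mem (T.nf_mem_X 0 : T.D.nf 0 ∈ T.X.subgroupOf T.C) _)
      (pow_mem (T.nf_mem_X 1 : T.D.nf 1 ∈ T.X.subgroupOf T.C) _))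
      (pow_mem (T.nf_mem_X 2 : T.D.nf 2 ∈ T.X.subgroupOf T.C) _)
  have h2 : a ∈ T.X.subgroupOf T.C := T.E_le_X (T.coe_mem_E.2 ha)
  have h3 : T.D.z ∈ T.X.subgroupOf T.C := by rw [mem_subgroupOf, T.hz]; exact T.t_mem_X
  show n ∈ T.X.subgroupOf T.C
  rcases e with e | e <;> rw [e]
  · exact mul_mem h2 h1
  · exact mul_mem (mul_mem h2 h1) h3

theorem M0_le_X {g : T.C} (hg : T.permC g = 1) : (g : G) ∈ T.X := by
  obtain ⟨w, hw, n, hn, rfl⟩ := T.permC_eq_one.1 hg
  exact mul_mem (T.WW_le_X ⟨w, hw, rfl⟩) (T.N_le_X ⟨n, hn, rfl⟩)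

end Ctx

end Cfsg.Agent.O8Three.Finish
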