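import Cfsg.Agent.Lib.O8Three.Finish.Core
import Cfsg.Agent.Lib.O8Three.Finish.Codes
import Cfsg.Agent.Lib.LargeExtra.TransferIndexTwo
import Cfsg.Agent.Lib.FGBasics.Extraspecial
import Mathlib.GroupTheory.Index

/-!
S3372: no element of the normal closure of the torus commuting with the involution exchanges two frames: such an
element gives a subgroup of index two in the centraliser with even orbits of the core.
-/

set_option autoImplicit false
set_option linter.style.haveILetI false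
set_option linter.unusedSectionVars false
set_option maxHeartbeats 800000
set_option synthInstance.maxSize 5000
set_option maxRecDepth 20000

namespace Cfsg.Agent.O8Three.Finish

open Subgroup
open Cfsg.Agent.O8Three.Wreath (CodeW mulW eW appW sgn)
open Cfsg.Agent.O8Three.Closed (V)
open Cfsg.Agent.O8Three.Finish.Codes (pC qC rC span cj)
open scoped commutatorElement

theorem perm_facts2 : (∀ σ : Equiv.Perm (Fin 3), Equiv.Perm.sign σ ≠ 1 → σ * σ = 1) ∧
    (∀ σ c : Equiv.Perm (Fin 3), σ ≠ 1 → Equiv.Perm.sign c = 1 → c ≠ 1 →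
      σ = c ∨ σ * σ = c ∨ σ * c * σ⁻¹ * c⁻¹ = c) ∧
    (∀ σ c τ : Equiv.Perm (Fin 3), Equiv.Perm.sign σ ≠ 1 → Equiv.Perm.sign c = 1 → c ≠ 1 →
      τ = 1 ∨ τ = c ∨ τ = c * c ∨ τ = σ ∨ τ = σ * c ∨ τ = σ * (c * c)) := by decide +kernel

theorem fin6_facts : (∀ p : Fin 6, sgn p = 0 → p ∈ ([0, 4, 5] : List (Fin 6))) ∧
    (∀ p : Fin 6, sgn p = 0 → Wreath.mulP p p = 0 → p = 0) ∧
    (∀ p : Fin 6, sgn (Wreath.invS p) = sgn p) := by decide +kernel

theorem mulW_assoc (a b c : CodeW) : mulW (mulW a b) c = mulW a (mulW b c) :=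
  Wreath.appW_inj fun v => by rw [Wreath.app_mul, Wreath.app_mul, Wreath.app_mul, Wreath.app_mul]

theorem sgn_mulW (a b : CodeW) : sgn (mulW a b).2 = sgn a.2 + sgn b.2 := Wreath.sgn_mul _ _

namespace Ctx

variable {G : Type*} [Group G] [Finite G] (T : Ctx G)

theorem qu_mem_X {g : T.C} (hX : (g : G) ∈ T.X) (hg : T.permC g ≠ 1) : T.S.qu ∈ T.X := by
  obtain ⟨hc1, hc2, -⟩ := T.qu_cycle
  have hqg : (T.quC * g⁻¹ * T.quC⁻¹ : T.C) ∈ T.X.subgroupOf T.C := by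
    rw [mem_subgroupOf]
    exact Normal.conj_mem normalClosure_normal _ (inv_mem hX) _
  have hgS : g ∈ T.X.subgroupOf T.C := hX
  obtain ⟨h, hh, he⟩ : ∃ h ∈ T.X.subgroupOf T.C, T.permC h = T.permC T.quC := by
    rcases perm_facts2.2.1 _ _ hg hc1 hc2 with e | e | e
    · exact ⟨g, hgS, e⟩
    · exact ⟨g * g, mul_mem hgS hgS, by rw [map_mul, e]⟩
    · refine ⟨g * (T.quC * g⁻¹ * T.quC⁻¹), mul_mem hgS hqg, ?_⟩
      rw [map_mul, map_mul, map_mul, map_inv, map_inv, ← mul_assoc, ← mul_assoc, e]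
  have hk : (h⁻¹ * T.quC : T.C) ∈ T.X.subgroupOf T.C :=
    mem_subgroupOf.2 (T.M0_le_X (g := h⁻¹ * T.quC) (by rw [map_mul, map_inv, he, inv_mul_cancel]))
  have := mul_mem hh hk
  rwa [mul_inv_cancel_left, mem_subgroupOf] at this

theorem C_le_X {g : T.C} (hX : (g : G) ∈ T.X) (hodd : Equiv.Perm.sign (T.permC g) ≠ 1) : T.C ≤ T.X := by
  intro x hx
  obtain ⟨hc1, hc2, -⟩ := T.qu_cycle
  have hq : T.quC ∈ T.X.subgroupOf T.C :=
    T.qu_mem_X hX fun e => hodd (by rw [e, Equiv.Perm.sign_one])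
  have hgS : g ∈ T.X.subgroupOf T.C := hX
  obtain ⟨h, hh, he⟩ : ∃ h ∈ T.X.subgroupOf T.C, T.permC h = T.permC ⟨x, hx⟩ := by
    rcases perm_facts2.2.2 _ _ (T.permC ⟨x, hx⟩) hodd hc1 hc2 with e | e | e | e | e | e
    · exact ⟨1, one_mem _, by rw [map_one, e]⟩
    · exact ⟨_, hq, e.symm⟩
    · exact ⟨_, mul_mem hq hq, by rw [map_mul, e]⟩
    · exact ⟨_, hgS, e.symm⟩
    · exact ⟨_, mul_mem hgS hq, by rw [map_mul, e]⟩
    · exact ⟨_, mul_mem hgS (mul_mem hq hq), by rw [map_mul, map_mul, e]⟩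
  have hk : (h⁻¹ * ⟨x, hx⟩ : T.C) ∈ T.X.subgroupOf T.C :=
    mem_subgroupOf.2 (T.M0_le_X (g := h⁻¹ * ⟨x, hx⟩) (by rw [map_mul, map_inv, he, inv_mul_cancel]))
  have := mul_mem hh hk
  rwa [mul_inv_cancel_left, mem_subgroupOf] at this

theorem odd_code {g : T.C} (hodd : Equiv.Perm.sign (T.permC g) ≠ 1) : sgn (T.cd g).2 ≠ 0 := fun h => by
  have h2 : (T.cd (g * g)).2 = 0 := T.cd_M0.2 (T.permC_eq_one.1 (by rw [map_mul, perm_facts2.1 _ hodd]))
  rw [T.cd_mul] at h2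
  have h3 := T.permC_eq_one.2 (T.cd_M0.1 (fin6_facts.2.1 _ h h2))
  exact hodd (by rw [h3, Equiv.Perm.sign_one])

theorem cd_even {w : CodeW} (h : sgn w.2 = 0) : ∃ x, T.cd x = w := by
  obtain ⟨m, -, hm⟩ := T.D.toHyp.in_even w (fin6_facts.1 _ h)
  obtain ⟨x, rfl⟩ := T.D.π_surj m
  exact ⟨x, T.cd_eq hm⟩

theorem cd_surj {g : T.C} (hg : sgn (T.cd g).2 ≠ 0) (w : CodeW) : ∃ x, T.cd x = w := by
  by_cases h : sgn w.2 = 0
  · exact T.cd_even h
  · have key : ∀ a b : ZMod 2, a ≠ 0 → b ≠ 0 → a + b = 0 := by decide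
    obtain ⟨x, hx⟩ := T.cd_even (w := mulW w (Wreath.invW (T.cd g))) (by
      rw [sgn_mulW]
      refine key _ _ h ?_
      show sgn (Wreath.invS (T.cd g).2) ≠ 0
      rw [fin6_facts.2.2]
      exact hg)
    refine ⟨x * g, ?_⟩
    rw [T.cd_mul, hx, mulW_assoc, (Wreath.mulW_inv _).1, (Wreath.mulW_eW _).1]

theorem ncard_codes (P : Subgroup T.C) : (T.cd '' P).ncard = Nat.card (P.map T.vperm) := by
  rw [← SetLike.coe_sort_coe (P.map T.vperm), Nat.card_coe_set_eq, coe_map]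
  have hinj : Function.Injective (fun w : CodeW => appW w) := fun a b e => Wreath.appW_inj (congrFun e)
  rw [← Set.ncard_image_of_injective (T.cd '' P) hinj, Set.image_image,
    ← Set.ncard_image_of_injective (T.vperm '' P)
      (f := fun σ : Equiv.Perm V => (σ : V → V)) DFunLike.coe_injective, Set.image_image]
  rfl

/-- The shape of the conjugate of the centraliser in the core of a conjugate of the involution. -/
structure Fam (P : Subgroup T.C) (v : T.C) : Prop where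
  card : Nat.card P = 256
  v_mem : v ∈ P
  z_mem : T.D.z ∈ P
  v_ne : v ≠ 1
  v_nz : v ≠ T.D.z
  vv : v * v = 1
  v_cent : ∀ x ∈ P, x * v = v * x
  sq : ∀ x ∈ P, x * x = 1 ∨ x * x = v
  comm : ∀ x ∈ P, ∀ y ∈ P, x * y = y * x ∨ x * y = y * x * v
  centre : ∀ x ∈ P, (∀ y ∈ P, x * y = y * x) → x = 1 ∨ x = T.D.z ∨ x = v ∨ x = T.D.z * v

variable {T}

theorem Fam.conj {P : Subgroup T.C} {v : T.C} (hF : T.Fam P v) (h : T.C) :
    T.Fam (P.map (MulAut.conj h).toMonoidHom) (MulAut.conj h v) := by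
  have hz : MulAut.conj h T.D.z = T.D.z := mul_inv_eq_iff_eq_mul.2 (T.D.central h)
  have hinj := (MulAut.conj h).injective
  refine ⟨by rw [card_map_of_injective hinj, hF.card], ⟨v, hF.v_mem, rfl⟩, ⟨_, hF.z_mem, hz⟩,
    fun e => hF.v_ne (hinj (e.trans (map_one _).symm)), fun e => hF.v_nz (hinj (e.trans hz.symm)),
    by rw [← map_mul, hF.vv, map_one], ?_, ?_, ?_, ?_⟩
  · rintro _ ⟨x, hx, rfl⟩
    show MulAut.conj h x * MulAut.conj h v = MulAut.conj h v * MulAut.conj h x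
    rw [← map_mul, ← map_mul, hF.v_cent x hx]
  · rintro _ ⟨x, hx, rfl⟩
    show MulAut.conj h x * MulAut.conj h x = 1 ∨ MulAut.conj h x * MulAut.conj h x = _
    rw [← map_mul]
    exact (hF.sq x hx).imp (fun e => by rw [e, map_one]) fun e => by rw [e]
  · rintro _ ⟨x, hx, rfl⟩ _ ⟨y, hy, rfl⟩
    show MulAut.conj h x * MulAut.conj h y = MulAut.conj h y * MulAut.conj h x ∨
      MulAut.conj h x * MulAut.conj h y = MulAut.conj h y * MulAut.conj h x * MulAut.conj h v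
    simp only [← map_mul]
    exact (hF.comm x hx y hy).imp (congrArg _) (congrArg _)
  · rintro _ ⟨x, hx, rfl⟩ hc
    show MulAut.conj h x = 1 ∨ MulAut.conj h x = _ ∨ MulAut.conj h x = _ ∨ MulAut.conj h x = _
    rcases hF.centre x hx (fun y hy => hinj (by
      rw [map_mul, map_mul]; exact hc _ ⟨y, hy, rfl⟩)) with e | e | e | e <;> rw [e]
    · exact Or.inl (map_one _)
    · exact Or.inr (Or.inl hz)
    · exact Or.inr (Or.inr (Or.inl rfl))
    · exact Or.inr (Or.inr (Or.inr (by rw [map_mul, hz])))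

theorem Fam.conj_code {P : Subgroup T.C} {w : CodeW} (hw : w ∈ T.cd '' P) (h : T.C) :
    cj (T.cd h) w ∈ T.cd '' (P.map (MulAut.conj h).toMonoidHom : Subgroup T.C) := by
  obtain ⟨x, hx, rfl⟩ := hw
  refine ⟨h * x * h⁻¹, ⟨x, hx, rfl⟩, ?_⟩
  rw [T.cd_mul, T.cd_mul, T.cd_inv]
  rfl

theorem codes_mul {P : Subgroup T.C} {a b : CodeW} (ha : a ∈ T.cd '' P) (hb : b ∈ T.cd '' P) :
    mulW a b ∈ T.cd '' P := by
  obtain ⟨x, hx, rfl⟩ := ha
  obtain ⟨y, hy, rfl⟩ := hb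
  exact ⟨x * y, mul_mem hx hy, T.cd_mul x y⟩

theorem span_subset {P : Subgroup T.C} {p q r : CodeW} (hp : p ∈ T.cd '' P) (hq : q ∈ T.cd '' P)
    (hr : r ∈ T.cd '' P) {w : CodeW} (hw : w ∈ span p q r) : w ∈ T.cd '' P := by
  have h1 : eW ∈ T.cd '' P := ⟨1, one_mem _, T.cd_one⟩
  simp only [span, List.mem_cons, List.not_mem_nil, or_false] at hw
  rcases hw with rfl | rfl | rfl | rfl | rfl | rfl | rfl | rfl
  exacts [h1, hp, hq, hr, codes_mul hp hq, codes_mul hp hr, codes_mul hq hr, codes_mul hp (codes_mul hq hr)]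

variable (hs : ∀ w : CodeW, ∃ x, T.cd x = w)
include hs

theorem Fam.small {P : Subgroup T.C} {v : T.C} (hF : T.Fam P v) :
    v ∈ T.D.WW ∧ (∀ a ∈ T.cd '' P, ∀ b ∈ T.cd '' P, mulW a b = mulW b a) ∧
      (∀ a ∈ T.cd '' P, mulW a a = eW) ∧ 8 ≤ (T.cd '' P).ncard ∧
      Nat.card (P ⊓ T.D.WW : Subgroup T.C) * (T.cd '' P).ncard = 256 ∧
      ∀ a ∈ P ⊓ T.D.WW, ∀ b ∈ P ⊓ T.D.WW, a * b = b * a := by
  have hmul : Nat.card (P ⊓ T.D.WW : Subgroup T.C) * (T.cd '' P).ncard = 256 := by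
    rw [← T.card_codes, hF.card]
  have htop : Nat.card (Subgroup.map T.vperm ⊤) = 1296 := by
    rw [← T.ncard_codes, show T.cd '' ((⊤ : Subgroup T.C) : Set T.C) = Set.univ from
      Set.eq_univ_iff_forall.2 fun w => let ⟨x, hx⟩ := hs w; ⟨x, trivial, hx⟩, Set.ncard_univ]
    simp [Nat.card_eq_fintype_card]
  have h16 : (T.cd '' P).ncard ≤ 16 := by
    have hd1 : (T.cd '' P).ncard ∣ 256 := hmul ▸ dvd_mul_left _ _
    have hd2 : (T.cd '' P).ncard ∣ 1296 := by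
      rw [T.ncard_codes, ← htop]
      exact card_dvd_of_le (map_mono le_top)
    exact Nat.le_of_dvd (by norm_num) (show _ ∣ 16 from Nat.dvd_gcd hd1 hd2)
  have hWn := T.WW_normal
  have hvW : v ∈ T.D.WW := by
    by_contra hvW
    have hsub : ∀ a ∈ P ⊓ T.D.WW, a = 1 ∨ a = T.D.z := by
      intro a ha
      have hzv : T.D.z * v ∉ T.D.WW := fun h => hvW (by simpa using mul_mem (inv_mem T.D.z_mem_WW) h)
      rcases hF.centre a ha.1 (fun y hy => by
        rcases hF.comm a ha.1 y hy with e | e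
        · exact e
        · refine absurd ?_ hvW
          rw [show v = a⁻¹ * y⁻¹ * (y * a * v) by group, ← e,
            show a⁻¹ * y⁻¹ * (a * y) = a⁻¹ * (y⁻¹ * a * y⁻¹⁻¹) by group]
          exact mul_mem (inv_mem ha.2) (hWn.conj_mem _ ha.2 _)) with e | e | e | e
      · exact Or.inl e
      · exact Or.inr e
      · exact absurd (e ▸ ha.2) hvW
      · exact absurd (e ▸ ha.2) hzv
    have hle : Nat.card (P ⊓ T.D.WW : Subgroup T.C) ≤ 2 := by
      classical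
      refine le_trans ?_ (Finset.card_le_two (a := (1 : T.C)) (b := T.D.z))
      rw [← Set.ncard_coe_finset, ← Nat.card_coe_set_eq]
      refine Nat.card_mono (Finset.finite_toSet _) fun a ha => ?_
      rcases hsub a ha with rfl | rfl <;> simp
    have := Nat.mul_le_mul hle h16
    omega
  have hzv : ∀ x : T.C, (x = 1 ∨ x = v) → (x = 1 ∨ x = T.D.z) → x = 1 := by
    rintro x (rfl | rfl) (h | h)
    exacts [rfl, rfl, h, absurd h hF.v_nz]
  have habel : ∀ a ∈ P ⊓ T.D.WW, ∀ b ∈ P ⊓ T.D.WW, a * b = b * a := by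
    intro a ha b hb
    refine eq_of_inv_mul_eq_one (hzv ((b * a)⁻¹ * (a * b)) ?_ ?_) |>.symm
    · rcases hF.comm a ha.1 b hb.1 with e | e <;> rw [e]
      exacts [Or.inl (inv_mul_cancel _), Or.inr (inv_mul_cancel_left _ _)]
    · rcases T.π_WW_comm ha.2 hb.2 with e | e <;> rw [e]
      exacts [Or.inl (inv_mul_cancel _), Or.inr (inv_mul_cancel_left _ _)]
  have hle32 : Nat.card (P ⊓ T.D.WW : Subgroup T.C) ≤ 32 := by
    haveI : Fact (Nat.Prime 2) := ⟨Nat.prime_two⟩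
    have h := FGBasics.XS.card_abelian_sq_le T.WW_extra ((P ⊓ T.D.WW).subgroupOf T.D.WW)
      ⟨⟨fun a b => Subtype.ext (Subtype.ext (habel _ a.2 _ b.2))⟩⟩
    rw [Nat.card_congr (subgroupOfEquivOfLe inf_le_right).toEquiv, T.D.card_WW] at h
    by_contra hlt
    nlinarith [Nat.lt_of_not_le hlt]
  refine ⟨hvW, ?_, ?_, ?_, hmul, habel⟩
  · rintro _ ⟨x, hx, rfl⟩ _ ⟨y, hy, rfl⟩
    rw [← T.cd_mul, ← T.cd_mul]
    rcases hF.comm x hx y hy with e | e <;> rw [e]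
    rw [T.cd_mul, T.cd_WW hvW, (Wreath.mulW_eW _).1]
  · rintro _ ⟨x, hx, rfl⟩
    rw [← T.cd_mul]
    rcases hF.sq x hx with e | e <;> rw [e]
    exacts [T.cd_one, T.cd_WW hvW]
  · by_contra hlt
    have := Nat.mul_le_mul hle32 (Nat.le_sub_one_of_lt (Nat.lt_of_not_le hlt))
    omega

/-- A standard position. -/
theorem Fam.normalise {P : Subgroup T.C} {v : T.C} (hF : T.Fam P v) {p : CodeW} (hp : p ∈ T.cd '' P)
    (hodd : sgn p.2 ≠ 0) : ∃ P' v', T.Fam P' v' ∧ pC ∈ T.cd '' (P' : Set T.C) ∧ qC ∈ T.cd '' (P' : Set T.C) ∧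
      rC ∈ T.cd '' (P' : Set T.C) := by
  classical
  obtain ⟨i, -, hi2⟩ := Codes.step1 p hodd
  obtain ⟨h1, hh1⟩ := hs (Closed.eC, i)
  have hF1 := hF.conj h1
  have hp1 := Fam.conj_code hp h1
  rw [hh1] at hp1
  obtain ⟨-, -, hsq1, -⟩ := Fam.small hs hF1
  obtain ⟨⟨c, j⟩, hc⟩ : ∃ w, w = cj (Closed.eC, i) p := ⟨_, rfl⟩
  rw [← hc] at hp1 hi2
  obtain rfl : j = 1 := hi2
  obtain ⟨e2, hb⟩ := Codes.step2 c (hsq1 _ hp1)
  obtain ⟨h2, hh2⟩ := hs ((0, c.1, 0), 0)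
  have hF2 := hF1.conj h2
  have hp2 := Fam.conj_code hp1 h2
  rw [hh2, e2] at hp2
  obtain ⟨-, hcomm, hsq, h8, -, -⟩ := Fam.small hs hF2
  generalize (P.map (MulAut.conj h1).toMonoidHom).map (MulAut.conj h2).toMonoidHom = P2 at hF2 hp2 hcomm hsq h8
  obtain ⟨pb, hpb⟩ : ∃ pb : CodeW, pb = ((0, 0, c.2.2), 1) := ⟨_, rfl⟩
  rw [← hpb] at hp2
  have hpodd : sgn pb.2 ≠ 0 := by rw [hpb]; show sgn (1 : Fin 6) ≠ 0; decide
  -- the even part has at least four members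
  obtain ⟨S0, hS0⟩ : ∃ S0 : Set CodeW, S0 = {w ∈ T.cd '' (P2 : Set T.C) | sgn w.2 = 0} := ⟨_, rfl⟩
  have hcov : T.cd '' (P2 : Set T.C) ⊆ S0 ∪ (mulW pb) '' S0 := fun w hw => by
    by_cases h : sgn w.2 = 0
    · exact Or.inl (hS0 ▸ ⟨hw, h⟩)
    · refine Or.inr ⟨mulW pb w, hS0 ▸ ⟨codes_mul hp2 hw, ?_⟩, ?_⟩
      · have key : ∀ a b : ZMod 2, a ≠ 0 → b ≠ 0 → a + b = 0 := by decide
        rw [sgn_mulW]
        exact key _ _ hpodd h
      · rw [← mulW_assoc, hsq _ hp2, (Wreath.mulW_eW _).2]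
  have h4 : 4 ≤ S0.ncard := by
    have := ((Set.ncard_le_ncard hcov).trans (Set.ncard_union_le _ _)).trans
      (Nat.add_le_add le_rfl (Set.ncard_image_le (f := mulW pb) (Set.toFinite S0)))
    omega
  obtain ⟨q, hq, hq1⟩ : ∃ q ∈ S0, q ≠ eW := by
    by_contra hcon
    push Not at hcon
    have := Set.ncard_le_ncard (t := {eW}) fun w hw => hcon w hw
    rw [Set.ncard_singleton] at this
    omega
  obtain ⟨r, hr, hr1, hrq⟩ : ∃ r ∈ S0, r ≠ eW ∧ r ≠ q := by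
    by_contra hcon
    push Not at hcon
    have := (Set.ncard_le_ncard (t := {eW, q}) fun w hw => by
      by_cases h : w = eW
      · exact Or.inl h
      · exact Or.inr (hcon w hw h)).trans (Set.ncard_pair (Ne.symm hq1)).le
    omega
  rw [hS0] at hq hr
  have hqc : q ∈ Codes.cand c.2.2 := Codes.even_cand _ hq.2 (hsq _ hq.1) hq1 _ hb (hpb ▸ hcomm _ hq.1 _ hp2)
  have hrc : r ∈ Codes.cand c.2.2 := Codes.even_cand _ hr.2 (hsq _ hr.1) hr1 _ hb (hpb ▸ hcomm _ hr.1 _ hp2)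
  obtain ⟨g, hg, h, hh, m1, m2, m3⟩ := Codes.step3 _ hb q hqc r hrc (Ne.symm hrq) (hcomm _ hq.1 _ hr.1)
  rw [← hpb] at m1 m2 m3
  obtain ⟨k, l, k1, k2, k3⟩ := Codes.step4 g hg h hh
  obtain ⟨h3, hh3⟩ := hs ((k, k, l), 0)
  refine ⟨_, _, hF2.conj h3, ?_, ?_, ?_⟩
  · rw [← k1, ← hh3]; exact Fam.conj_code (span_subset hp2 hq.1 hr.1 m1) h3
  · rw [← k2, ← hh3]; exact Fam.conj_code (span_subset hp2 hq.1 hr.1 m2) h3
  · rw [← k3, ← hh3]; exact Fam.conj_code (span_subset hp2 hq.1 hr.1 m3) h3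

/-- All codes of such a group are even. -/
theorem Fam.even {P₀ : Subgroup T.C} {v₀ : T.C} (hF₀ : T.Fam P₀ v₀) : ∀ x ∈ P₀, sgn (T.cd x).2 = 0 := by
  classical
  intro x₀ hx₀
  by_contra hodd
  obtain ⟨P, v, hF, hp, hq, hr⟩ := Fam.normalise hs hF₀ ⟨x₀, hx₀, rfl⟩ hodd
  obtain ⟨hvW, hcomm, hsq, h8, hmul, habel⟩ := Fam.small hs hF
  -- the codes are the eight standard ones
  have hspan : ∀ w ∈ T.cd '' (P : Set T.C), w ∈ span pC qC rC := by
    intro w hw
    have hev : ∀ u ∈ T.cd '' (P : Set T.C), sgn u.2 = 0 → u ∈ ([eW, qC, rC, mulW qC rC] : List CodeW) :=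
      fun u hu h => Codes.even_cent u h (hsq _ hu) (hcomm _ hu _ hp) (hcomm _ hu _ hq) (hcomm _ hu _ hr)
    by_cases h : sgn w.2 = 0
    · have := hev w hw h
      simp only [List.mem_cons, List.not_mem_nil, or_false] at this
      rcases this with e | e | e | e <;> subst e <;> simp [span]
    · have key : ∀ a b : ZMod 2, a ≠ 0 → b ≠ 0 → a + b = 0 := by decide
      have hu := hev _ (codes_mul hp hw) (by rw [sgn_mulW]; exact key _ _ Codes.span_sgn.1 h)
      have he : w = mulW pC (mulW pC w) := by rw [← mulW_assoc, hsq _ hp, (Wreath.mulW_eW _).2]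
      simp only [List.mem_cons, List.not_mem_nil, or_false] at hu
      rcases hu with e | e | e | e <;> rw [e] at he <;> subst he <;> simp [span, (Wreath.mulW_eW _).1]
  have hn8 : (T.cd '' (P : Set T.C)).ncard ≤ 8 := by
    refine (Set.ncard_le_ncard (t := ((span pC qC rC).toFinset : Set CodeW))
      fun w hw => List.mem_toFinset.2 (hspan w hw)).trans ?_
    rw [Set.ncard_coe_finset]
    exact (List.toFinset_card_le _).trans le_rfl
  obtain ⟨v0, hv0⟩ := T.D.F_range (x := T.D.π v) ⟨v, hvW, rfl⟩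
  have hv0ne : v0 ≠ 0 := fun e => by
    rw [e, Cube.hom_zero T.D.F_xor] at hv0
    exact (T.D.π_eq_one.1 hv0.symm).elim hF.v_ne hF.v_nz
  have hfix : ∀ w ∈ T.cd '' (P : Set T.C), appW w v0 = v0 := by
    rintro _ ⟨x, hx, rfl⟩
    exact T.D.toHyp.fixed_of_comm (T.cd_spec x) (by
      show T.D.π x * T.D.F v0 = T.D.F v0 * T.D.π x
      rw [hv0, ← map_mul, ← map_mul, hF.v_cent x hx])
  obtain ⟨hsmall, wf, hwf, hwf0, hwfv, hwfix⟩ :=
    Codes.moved_small v0 (hfix _ hp) (hfix _ hq) (hfix _ hr) hv0ne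
  -- the image of the abelian part
  obtain ⟨K, hK⟩ : ∃ K, K = (P ⊓ T.D.WW).map T.D.π := ⟨_, rfl⟩
  have h16 : 16 ≤ Nat.card K := by
    have h2 : Nat.card (P ⊓ T.D.WW : Subgroup T.C) = 2 * Nat.card K := by
      rw [hK]
      exact T.D.card_map_π (K := P ⊓ T.D.WW) ⟨hF.z_mem, T.D.z_mem_WW⟩
    have := Nat.mul_le_mul (le_refl (Nat.card (P ⊓ T.D.WW : Subgroup T.C))) hn8
    omega
  obtain ⟨W0, hW0⟩ : ∃ W0 : Set V, W0 = T.D.F ⁻¹' (K : Set (T.C ⧸ T.D.Z)) := ⟨_, rfl⟩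
  have hW0c : W0.ncard = Nat.card K := by
    rw [← Set.ncard_image_of_injective W0 T.D.F_inj, hW0, Set.image_preimage_eq_inter_range,
      Set.inter_eq_left.2 ?_, ← Nat.card_coe_set_eq]
    · rfl
    · rintro y hy
      obtain ⟨a, ha, rfl⟩ := (hK ▸ hy : y ∈ (P ⊓ T.D.WW).map T.D.π)
      obtain ⟨u, hu⟩ := T.D.F_range (x := T.D.π a) ⟨a, ha.2, rfl⟩
      exact ⟨u, hu⟩
  have hsubm : W0 ⊆ ((Codes.moved v0).toFinset : Set V) := by
    intro w hw
    rw [hW0, Set.mem_preimage, SetLike.mem_coe, hK] at hw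
    obtain ⟨a, ha, haw⟩ := hw
    have step : ∀ u ∈ T.cd '' (P : Set T.C), appW u w = w ∨ appW u w ^^^ w = v0 := by
      rintro _ ⟨x, hx, rfl⟩
      have h1 : T.D.π x * T.D.F w * (T.D.π x)⁻¹ = T.D.F (appW (T.cd x) w) := T.cd_spec x w
      rcases hF.comm x hx a ha.1 with e | e
      · refine Or.inl (T.D.F_inj ?_)
        rw [← h1, ← haw, ← map_mul, e, map_mul, mul_inv_cancel_right]
      · refine Or.inr (T.D.F_inj ?_)
        have hwF : T.D.F w * T.D.F w = 1 := T.D.U_sq (T.D.F_mem w)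
        rw [T.D.F_xor, ← h1, hv0]
        have hx' : T.D.π x * T.D.π v = T.D.π v * T.D.π x := by rw [← map_mul, ← map_mul, hF.v_cent x hx]
        have hxw : T.D.π x * T.D.F w = T.D.F w * T.D.π x * T.D.π v := by
          rw [← haw, ← map_mul, e, map_mul, map_mul]
        calc T.D.π x * T.D.F w * (T.D.π x)⁻¹ * T.D.F w
            = T.D.F w * (T.D.π x * T.D.π v) * (T.D.π x)⁻¹ * T.D.F w := by rw [hxw]; group
          _ = T.D.F w * T.D.π v * T.D.F w := by rw [hx']; group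
          _ = T.D.π v * T.D.F w * T.D.F w := by
            rw [T.D.U_comm (x := T.D.F w) (y := T.D.π v) (T.D.F_mem w) ⟨v, hvW, rfl⟩]
          _ = T.D.π v := by rw [mul_assoc, hwF, mul_one]
    refine List.mem_toFinset.2 (List.mem_filter.2 ⟨List.mem_finRange w, decide_eq_true ?_⟩)
    exact ⟨step _ hp, step _ hq, step _ hr⟩
  have heq := Set.eq_of_subset_of_ncard_le hsubm (by
    rw [Set.ncard_coe_finset]
    have := (List.toFinset_card_le (Codes.moved v0)).trans hsmall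
    omega)
  have hwm : T.D.F wf ∈ K := by
    have : wf ∈ W0 := heq ▸ List.mem_toFinset.2 hwf
    rwa [hW0] at this
  rw [hK] at hwm
  obtain ⟨a, ha, haw⟩ := hwm
  -- it is central
  have hcen : ∀ y ∈ P, a * y = y * a := by
    intro y hy
    have h1 : T.D.π (a * y) = T.D.π (y * a) := by
      have := T.D.toHyp.comm_of_fixed (T.cd_spec y) (hwfix _ (hspan _ ⟨y, hy, rfl⟩))
      rw [map_mul, map_mul, haw]
      exact this.symm
    rcases T.D.π_eq.1 h1 with e | e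
    · exact e
    · rcases hF.comm a ha.1 y hy with e' | e'
      · exact e'
      · exact absurd (mul_left_cancel (e'.symm.trans e)) hF.v_nz
  rcases hF.centre a ha.1 hcen with e | e | e | e <;> rw [e] at haw
  · exact hwf0 (T.D.F_inj (by rw [← haw, map_one, Cube.hom_zero T.D.F_xor]))
  · exact hwf0 (T.D.F_inj (by rw [← haw, T.D.π_z, Cube.hom_zero T.D.F_xor]))
  · exact hwfv (T.D.F_inj (by rw [← haw, hv0]))
  · exact hwfv (T.D.F_inj (by rw [← haw, map_mul, T.D.π_z, one_mul, hv0]))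

omit hs

variable (T)

/-- The shape occurs for the conjugates of the involution in the core. -/
theorem exists_fam {g : G} (hu : g * T.S.F.t * g⁻¹ ∈ T.WG) (hne : g * T.S.F.t * g⁻¹ ≠ T.S.F.t) :
    ∃ (P : Subgroup T.C) (v : T.C), T.Fam P v ∧
      ∀ y ∈ T.WG, y * (g * T.S.F.t * g⁻¹) = g * T.S.F.t * g⁻¹ * y → ∃ x ∈ P, (x : G) = g⁻¹ * y * g := by
  classical
  have hx := T.xsLocal.toXSub
  obtain ⟨t, ht⟩ : ∃ t, t = T.S.F.t := ⟨_, rfl⟩
  rw [← ht] at hu hne hx ⊢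
  obtain ⟨u, hu'⟩ : ∃ u, u = g * t * g⁻¹ := ⟨_, rfl⟩
  rw [← hu'] at hu hne ⊢
  have hu1 : u ≠ 1 := fun e => hx.ne_one (by rw [hu', conj_eq_one_iff] at e; exact e)
  have hu2 : u * u = 1 := by rw [hu', show g * t * g⁻¹ * (g * t * g⁻¹) = g * (t * t) * g⁻¹ by group, hx.sq]; group
  obtain ⟨P1, hP1⟩ : ∃ P1, P1 = T.WG ⊓ centralizer ({u} : Set G) := ⟨_, rfl⟩
  have hmem : ∀ {y : G}, y ∈ P1 ↔ y ∈ T.WG ∧ y * u = u * y := fun {y} => by
    rw [hP1, Subgroup.mem_inf, mem_centralizer_singleton_iff]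
  have hcard : Nat.card P1 = 256 := by
    obtain ⟨q, hq, hqu⟩ := hx.exists_conj hu hu1 hne
    have hidx : (P1.subgroupOf T.WG).index = 2 := by
      refine index_eq_two_iff.2 ⟨⟨q, hq⟩, fun b => ?_⟩
      simp only [mem_subgroupOf, Subgroup.coe_mul]
      have hb : (b : G) * u * (b : G)⁻¹ = u ∨ (b : G) * u * (b : G)⁻¹ = u * t := hx.conj_cases b.2 hu
      have hbt : (b : G) * t * (b : G)⁻¹ = t := by rw [hx.comm b.2, mul_inv_cancel_right]
      have hbq : (b : G) * q * u * ((b : G) * q)⁻¹ = (b : G) * u * (b : G)⁻¹ * t := by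
        rw [show (b : G) * q * u * ((b : G) * q)⁻¹ = (b : G) * (q * u * q⁻¹) * (b : G)⁻¹ by group, hqu]
        conv_rhs => rw [← hbt]
        group
      have hiff : ∀ y ∈ T.WG, (y ∈ P1 ↔ y * u * y⁻¹ = u) := fun y hy => by
        rw [hmem, mul_inv_eq_iff_eq_mul]
        exact ⟨fun h => h.2, fun h => ⟨hy, h⟩⟩
      rw [hiff _ (mul_mem b.2 hq), hiff _ b.2, hbq]
      rcases hb with e | e <;> rw [e]
      · exact Or.inr ⟨rfl, fun h => hx.ne_mul_z u h.symm⟩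
      · refine Or.inl ⟨by rw [mul_assoc, hx.sq, mul_one], fun h => hx.ne_mul_z u h.symm⟩
    have h := (P1.subgroupOf T.WG).card_mul_index
    rw [hidx, Nat.card_congr (subgroupOfEquivOfLe (hP1 ▸ inf_le_left : P1 ≤ T.WG)).toEquiv, T.card_WG] at h
    omega
  obtain ⟨f, hf⟩ : ∃ f : G →* G, f = (MulAut.conj g⁻¹).toMonoidHom := ⟨_, rfl⟩
  have hfy : ∀ y, f y = g⁻¹ * y * g := fun y => by rw [hf]; simp
  have hfu : f u = t := by rw [hfy, hu']; group
  have hfinj : Function.Injective f := hf ▸ (MulAut.conj g⁻¹).injective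
  have hle : P1.map f ≤ T.C := by
    rintro _ ⟨y, hy, rfl⟩
    rw [mem_centralizer_singleton_iff, ← ht, ← hfu, ← map_mul, ← map_mul, (hmem.1 hy).2]
  have htP : t ∈ P1 := hmem.2 ⟨hx.mem, (hx.comm hu).symm⟩
  have huP : u ∈ P1 := hmem.2 ⟨hu, rfl⟩
  have hz : (T.D.z : G) = f u := by rw [T.hz, hfu, ht]
  refine ⟨(P1.map f).subgroupOf T.C, ⟨f t, hle ⟨t, htP, rfl⟩⟩,
    ⟨?_, ⟨t, htP, rfl⟩, ⟨u, huP, hz.symm⟩, ?_, ?_, ?_, ?_, ?_, ?_, ?_⟩,
    fun y hy hyu => ⟨⟨f y, hle ⟨y, hmem.2 ⟨hy, hyu⟩, rfl⟩⟩, ⟨y, hmem.2 ⟨hy, hyu⟩, rfl⟩, hfy y⟩⟩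
  · rw [Nat.card_congr (subgroupOfEquivOfLe hle).toEquiv, card_map_of_injective hfinj, hcard]
  · exact fun e => hx.ne_one (hfinj ((congrArg Subtype.val e).trans (map_one f).symm))
  · exact fun e => hne (hfinj ((congrArg Subtype.val e).trans hz)).symm
  · exact Subtype.ext (show f t * f t = 1 by rw [← map_mul, hx.sq, map_one])
  · rintro ⟨x, hxC⟩ ⟨y, hy, e⟩
    exact Subtype.ext (show x * f t = f t * x by
      rw [← show f y = x from e, ← map_mul, ← map_mul, hx.comm (hmem.1 hy).1])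
  · rintro ⟨x, hxC⟩ ⟨y, hy, e⟩
    obtain rfl : f y = x := e
    rcases hx.sq_cases (hmem.1 hy).1 with e | e
    · exact Or.inl (Subtype.ext (show f y * f y = 1 by rw [← map_mul, e, map_one]))
    · exact Or.inr (Subtype.ext (show f y * f y = f t by rw [← map_mul, e]))
  · rintro ⟨x, hxC⟩ ⟨y, hy, e⟩ ⟨x', hxC'⟩ ⟨y', hy', e'⟩
    obtain rfl : f y = x := e
    obtain rfl : f y' = x' := e'
    rcases hx.conj_cases (hmem.1 hy).1 (hmem.1 hy').1 with e | e
    · exact Or.inl (Subtype.ext (show f y * f y' = f y' * f y by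
        rw [← map_mul, ← map_mul, mul_inv_eq_iff_eq_mul.1 e]))
    · exact Or.inr (Subtype.ext (show f y * f y' = f y' * f y * f t by
        rw [← map_mul, ← map_mul, ← map_mul, mul_inv_eq_iff_eq_mul.1 e, mul_assoc y' t, ← hx.comm (hmem.1 hy).1,
          ← mul_assoc]))
  · rintro ⟨x, hxC⟩ ⟨y, hy, e⟩ hc
    obtain rfl : f y = x := e
    have hc' : ∀ q ∈ T.WG, q * u = u * q → q * y = y * q := fun q hq hqu => by
      have := hc ⟨f q, hle ⟨q, hmem.2 ⟨hq, hqu⟩, rfl⟩⟩ ⟨q, hmem.2 ⟨hq, hqu⟩, rfl⟩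
      refine (hfinj ?_).symm
      rw [map_mul, map_mul]
      exact congrArg Subtype.val this
    rcases hx.mem_pair_of_commute hu hu2 (hmem.1 hy).1 hc' with e | e | e | e
    · exact Or.inl (Subtype.ext (show f y = 1 by rw [e, map_one]))
    · exact Or.inr (Or.inr (Or.inl (Subtype.ext (show f y = f t by rw [e]))))
    · exact Or.inr (Or.inl (Subtype.ext (show f y = T.D.z by rw [e, hz])))
    · exact Or.inr (Or.inr (Or.inr (Subtype.ext (show f y = T.D.z * f t by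
        rw [e, hz, ← map_mul, hx.comm hu]))))

/-- **No element of the normal closure exchanges two frames.** -/
theorem false_of_odd {g : T.C} (hX : (g : G) ∈ T.X) (hodd : Equiv.Perm.sign (T.permC g) ≠ 1) : False := by
  have hg := T.odd_code hodd
  let par : T.C →* Multiplicative (ZMod 2) :=
    MonoidHom.mk' (fun x => Multiplicative.ofAdd (sgn (T.cd x).2)) fun x y => by
      rw [T.cd_mul, sgn_mulW, ofAdd_add]
  have hidx : par.ker.index = 2 := by
    rw [index_ker, show par.range = ⊤ from eq_top_iff.2 fun a _ => ?_, card_top]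
    · simp
    · have key : ∀ a : Multiplicative (ZMod 2), a = 1 ∨ a = Multiplicative.ofAdd 1 := by decide
      have key2 : ∀ a : ZMod 2, a ≠ 0 → a = 1 := by decide
      rcases key a with rfl | rfl
      · exact one_mem _
      · exact ⟨g, congrArg Multiplicative.ofAdd (key2 _ hg)⟩
  obtain ⟨K, hKdef⟩ : ∃ K, K = par.ker.map T.C.subtype := ⟨_, rfl⟩
  have hK : LargeExtra.IdxTwo K T.S.F.t := by
    refine LargeExtra.IdxTwo.of_relIndex (hKdef ▸ map_subtype_le _) ?_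
    show (K.subgroupOf T.C).index = 2
    rw [hKdef, subgroupOf, comap_map_eq_self_of_injective T.C.subtype_injective, hidx]
  refine LargeExtra.false_of_even_orbits (T.residual_of_le (T.C_le_X hX hodd)) T.xsLocal hK
    (Or.inr (by rw [T.card_WG]; norm_num)) fun a ha hne y hy hyC => ?_
  obtain ⟨P, v, hF, hsurj⟩ := T.exists_fam ha hne
  obtain ⟨x, hx, hxy⟩ := hsurj y hy (by
    have h := mem_centralizer_singleton_iff.1 hyC
    calc y * (a * T.S.F.t * a⁻¹) = a * (a⁻¹ * y * a * T.S.F.t) * a⁻¹ := by group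
      _ = a * T.S.F.t * a⁻¹ * y := by rw [h]; group)
  rw [hKdef, ← hxy]
  exact ⟨x, by
    show Multiplicative.ofAdd (sgn (T.cd x).2) = 1
    rw [Fam.even (T.cd_surj hg) hF x hx]; rfl, rfl⟩

end Ctx

end Cfsg.Agent.O8Three.Finish
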